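import Cfsg.Agent.Lib.PGroup.FrattiniStab
import Cfsg.Agent.Lib.Linear.AltDeg.Minimal
import Cfsg.Agent.Lib.Linear.AltDeg.ClassTwo
import Cfsg.Agent.S2653

/-!
Exact lifts, to a minimal cover of an alternating group, of commuting elements of prime order together with
elements permuting their powers.
-/

set_option autoImplicit false

namespace Cfsg.Lib.Chev.AltSection

open Subgroup

/-- A linear representation whose kernel is inside the kernel of the section. -/
theorem section_le_degree {F : Type*} [Field F] [Fintype F] (p : ℕ) [Fact p.Prime] [CharP F p] {H : Type*} [Group H]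
    {r : ℕ} (π : H →* ↥(alternatingGroup (Fin r))) (hπ : Function.Surjective π) {d : ℕ} (ρ : H →* GL (Fin d) F)
    (hk : ρ.ker ≤ π.ker) (hr : 9 ≤ r) : r - 1 - (if p ∣ r then 1 else 0) ≤ d := by
  let K : Subgroup ρ.range := (π.ker).map ρ.rangeRestrict
  haveI : K.Normal := (inferInstance : π.ker.Normal).map _ ρ.rangeRestrict_surjective
  have hKc : K.comap ρ.rangeRestrict = π.ker := by
    rw [Subgroup.comap_map_eq, MonoidHom.ker_rangeRestrict, sup_of_le_left hk]
  let e1 : H ⧸ π.ker ≃* ρ.range ⧸ K :=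
    MulEquiv.ofBijective (QuotientGroup.map π.ker K ρ.rangeRestrict hKc.ge)
      ⟨(MonoidHom.ker_eq_bot_iff _).1 (eq_bot_iff.2 fun x hx => by
        induction x using QuotientGroup.induction_on with
        | H x =>
          rw [MonoidHom.mem_ker, QuotientGroup.map_mk, QuotientGroup.eq_one_iff, ← Subgroup.mem_comap, hKc] at hx
          exact Subgroup.mem_bot.2 ((QuotientGroup.eq_one_iff x).2 hx)), fun y => by
        induction y using QuotientGroup.induction_on with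
        | H y =>
          obtain ⟨x, rfl⟩ := ρ.rangeRestrict_surjective y
          exact ⟨x, rfl⟩⟩
  exact Cfsg.Agent.S2653.result p d r ρ.range K
    ⟨e1.symm.trans (QuotientGroup.quotientKerEquivOfSurjective π hπ)⟩ hr

variable {n : ℕ} {H : Type*} [Group H] [Finite H] (π : H →* ↥(alternatingGroup (Fin n))) (hπ : Function.Surjective π)
  (hmin : ∀ M : Subgroup H, M.map π = ⊤ → M = ⊤) (hn : 9 ≤ n) {ℓ : ℕ} [hℓ : Fact ℓ.Prime]

include hπ hmin hn

/-- An `ℓ`-subgroup of the kernel is central if the Frattini quotients of `ℓ`-subgroups are smaller than the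
linear sections. -/
theorem kernel_central (hℓ3 : ℓ ≠ 3) {N : ℕ} (hN : N < n - 1 - (if ℓ ∣ n then 1 else 0))
    (hrank : ∀ P : Subgroup H, IsPGroup ℓ P → (frattini ↥P).index ≤ ℓ ^ N)
    {Q : Subgroup H} (hQ : IsPGroup ℓ Q) (hker : Q ≤ π.ker) {z : H} (hz : z ∈ Q) (h : H) : h * z = z * h := by
  classical
  obtain ⟨S, hS⟩ := (hQ.comap_of_injective π.ker.subtype π.ker.subtype_injective).exists_le_sylow
  let P : Subgroup H := (S : Subgroup π.ker).map π.ker.subtype
  have hzP : z ∈ P := ⟨⟨z, hker hz⟩, hS (show (⟨z, hker hz⟩ : π.ker) ∈ Q.comap π.ker.subtype from hz), rfl⟩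
  have hP : IsPGroup ℓ P := S.2.map _
  have hPn : P.Normal := by
    rw [← Subgroup.normalizer_eq_top_iff]
    refine hmin _ ?_
    have hfr := Sylow.normalizer_sup_eq_top S
    have h1 : (Subgroup.normalizer (P : Set H) ⊔ π.ker).map π = ⊤ := by
      rw [hfr, Subgroup.map_top_of_surjective π hπ]
    rwa [Subgroup.map_sup, (π.ker.map_eq_bot_iff).2 le_rfl, sup_bot_eq] at h1
  haveI := hPn
  haveI hCn : (Subgroup.centralizer (P : Set H)).Normal := inferInstance
  have hC : Subgroup.centralizer (P : Set H) = ⊤ := by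
    by_contra hne
    have hle : Subgroup.centralizer (P : Set H) ≤ π.ker := by
      by_contra h'
      exact hne (Cfsg.Lib.Linear.AltDeg.normal_top_of hπ hmin (by omega) _ h')
    let Φ : Subgroup H := (frattini ↥P).map P.subtype
    haveI hchar : (frattini ↥P).Characteristic := inferInstance
    haveI : Φ.Normal := ConjAct.normal_of_characteristic_of_normal
    let q : H →* H ⧸ Φ := QuotientGroup.mk' Φ
    let Qb : Subgroup (H ⧸ Φ) := P.map q
    haveI : Qb.Normal := hPn.map q (QuotientGroup.mk'_surjective Φ)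
    have hc : ∀ a b : Qb, a * b = b * a := by
      rintro ⟨_, a, ha, rfl⟩ ⟨_, b, hb, rfl⟩
      refine Subtype.ext ?_
      show q a * q b = q b * q a
      rw [← map_mul, ← map_mul]
      refine (QuotientGroup.eq (s := Φ)).2 ?_
      refine ⟨(⟨a, ha⟩ * ⟨b, hb⟩ : P)⁻¹ * (⟨b, hb⟩ * ⟨a, ha⟩), ?_, rfl⟩
      refine Cfsg.Lib.PGroup.commutator_le_frattini hP ?_
      rw [show ((⟨a, ha⟩ * ⟨b, hb⟩ : P))⁻¹ * (⟨b, hb⟩ * ⟨a, ha⟩) =
        (⟨b, hb⟩ : P)⁻¹ * (⟨a, ha⟩ : P)⁻¹ * (⟨b, hb⟩ : P)⁻¹⁻¹ * (⟨a, ha⟩ : P)⁻¹⁻¹ by group]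
      exact Subgroup.commutator_mem_commutator (Subgroup.mem_top _) (Subgroup.mem_top _)
    have he : ∀ a : Qb, a ^ ℓ = 1 := by
      rintro ⟨_, a, ha, rfl⟩
      refine Subtype.ext ?_
      show q a ^ ℓ = 1
      rw [← map_pow]
      refine (QuotientGroup.eq_one_iff _).2 ⟨(⟨a, ha⟩ : P) ^ ℓ, ?_, rfl⟩
      exact Cfsg.Lib.PGroup.pow_mem_frattini hP _
    obtain ⟨d, ρ, hcard, hρ⟩ := Cfsg.Lib.Linear.AltDeg.exists_linear_action ℓ q Qb hc he
    have hd : d ≤ N := by
      have hQb : Nat.card Qb = (frattini ↥P).index := by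
        have hk : (q.subgroupMap P).ker = frattini ↥P := by
          ext x
          rw [MonoidHom.mem_ker]
          constructor
          · intro hx
            obtain ⟨y, hy, e⟩ := (QuotientGroup.eq_one_iff _).1 (congrArg Subtype.val hx)
            rwa [← Subtype.ext e]
          · intro hx
            exact Subtype.ext ((QuotientGroup.eq_one_iff _).2 ⟨x, hx, rfl⟩)
        rw [← hk, Subgroup.index_ker, MonoidHom.range_eq_top.2 (q.subgroupMap_surjective P), Subgroup.card_top]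
      have := hrank P hP
      rw [← hQb, hcard] at this
      exact (Nat.pow_le_pow_iff_right hℓ.out.one_lt).1 this
    by_cases hρk : ρ.ker ≤ π.ker
    · -- a linear section of small degree
      have := section_le_degree ℓ π hπ ρ hρk hn
      omega
    · -- a Burnside kernel
      have htop : ρ.ker = ⊤ := Cfsg.Lib.Linear.AltDeg.normal_top_of hπ hmin (by omega) _ hρk
      let c : H →* MulAut ↥P := MulAut.conjNormal
      have hst : ∀ g, c g ∈ Cfsg.Lib.PGroup.frattiniStab ↥P := fun g x => by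
        have h1 := hρ g (MonoidHom.mem_ker.1 (htop ▸ Subgroup.mem_top g)) (q x) ⟨x, x.2, rfl⟩
        rw [← map_inv, ← map_mul, ← map_mul] at h1
        obtain ⟨y, hy, e⟩ := (QuotientGroup.eq (s := Φ)).1 h1.symm
        have e2 : x⁻¹ * c g x = y := Subtype.ext (by
          rw [Subgroup.coe_mul, Subgroup.coe_inv, MulAut.conjNormal_apply]
          exact e.symm)
        rw [e2]; exact hy
      haveI : Nontrivial (Fin n) := Fin.nontrivial_iff_two_le.2 (by omega)
      haveI : Fact (Nat.Prime 3) := ⟨by norm_num⟩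
      obtain ⟨x, hx⟩ := exists_prime_orderOf_dvd_card' (G := ↥(alternatingGroup (Fin n))) 3 (by
        have h2 := two_mul_nat_card_alternatingGroup (α := Fin n)
        rw [Nat.card_perm, Nat.card_fin] at h2
        have h3 : 3 ∣ 2 * Nat.card ↥(alternatingGroup (Fin n)) := by
          rw [h2]; exact Nat.dvd_factorial (by norm_num) (by omega)
        exact (Nat.Coprime.dvd_mul_left (by norm_num)).1 h3)
      obtain ⟨g, rfl⟩ := hπ x
      obtain ⟨k, hk⟩ := Cfsg.Lib.PGroup.isPGroup_frattiniStab hP ⟨c g, hst g⟩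
      have hk' : g ^ ℓ ^ k ∈ Subgroup.centralizer (P : Set H) := by
        rw [Subgroup.mem_centralizer_iff]
        intro p hp
        have e := congrArg (fun f : MulAut ↥P => ((f ⟨p, hp⟩ : P) : H))
          (show c (g ^ ℓ ^ k) = 1 by rw [map_pow]; exact congrArg Subtype.val hk)
        simp only [MulAut.one_apply] at e
        rw [MulAut.conjNormal_apply] at e
        exact (mul_inv_eq_iff_eq_mul.1 e).symm
      have h1 : π g ^ ℓ ^ k = 1 := by rw [← map_pow]; exact hle hk'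
      have h2 := orderOf_dvd_of_pow_eq_one h1
      rw [hx] at h2
      exact hℓ3 (((Nat.prime_dvd_prime_iff_eq (by norm_num) hℓ.out).1
        (Nat.Prime.dvd_of_dvd_pow (by norm_num : Nat.Prime 3) h2)).symm)
  have := Subgroup.mem_centralizer_iff.1 (hC ▸ Subgroup.mem_top h : h ∈ Subgroup.centralizer (P : Set H)) z hzP
  exact this.symm

omit hmin hn

/-- A subgroup over an `ℓ`-subgroup, normalised by lifts of its normalisers. -/
theorem exists_sylow_over {E : Subgroup ↥(alternatingGroup (Fin n))} (hE : IsPGroup ℓ E) :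
    ∃ P : Subgroup H, IsPGroup ℓ P ∧ P.map π = E ∧
      ∀ s ∈ normalizer (E : Set ↥(alternatingGroup (Fin n))), ∃ y ∈ normalizer (P : Set H), π y = s := by
  classical
  let M : Subgroup H := (normalizer (E : Set ↥(alternatingGroup (Fin n)))).comap π
  let K : Subgroup M := (E.comap π).subgroupOf M
  have hKn : K.Normal := by
    refine ⟨fun k hk g => ?_⟩
    show π ((g * k * g⁻¹ : M) : H) ∈ E
    push_cast
    rw [map_mul, map_mul, map_inv]
    exact (mem_normalizer_iff.mp g.2 _).mp hk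
  obtain ⟨S⟩ : Nonempty (Sylow ℓ K) := inferInstance
  let f : K →* E :=
    { toFun := fun q => ⟨π ((q : M) : H), q.2⟩
      map_one' := by ext; simp
      map_mul' := fun _ _ => by ext; simp }
  have hf : Function.Surjective f := by
    rintro ⟨x, hx⟩
    obtain ⟨g, rfl⟩ := hπ x
    exact ⟨⟨⟨g, show π g ∈ normalizer (E : Set _) from le_normalizer hx⟩, hx⟩, rfl⟩
  have htop : ((S.mapSurjective hf : Sylow ℓ E) : Subgroup E) = ⊤ :=
    ((S.mapSurjective hf).3 (hE.to_subgroup ⊤) le_top).symm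
  rw [Sylow.coe_mapSurjective] at htop
  let P : Subgroup H := ((S : Subgroup K).map K.subtype).map M.subtype
  have hPE : P.map π = E := by
    refine le_antisymm ?_ fun x hx => ?_
    · rintro _ ⟨_, ⟨_, ⟨q, -, rfl⟩, rfl⟩, rfl⟩
      exact q.2
    · obtain ⟨q, hq, e⟩ := htop.ge (mem_top (⟨x, hx⟩ : E))
      exact ⟨_, ⟨_, ⟨q, hq, rfl⟩, rfl⟩, congrArg Subtype.val e⟩
  refine ⟨P, (S.2.map _).map _, hPE, fun s hs => ?_⟩
  obtain ⟨g, rfl⟩ := hπ s
  obtain ⟨y, hy, k, hk, hyk⟩ :=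
    mem_sup_of_normal_right.mp ((Sylow.normalizer_sup_eq_top S).ge (mem_top (⟨g, hs⟩ : M)))
  obtain ⟨p, hp, hpk⟩ := hPE.ge (show π (k : H) ∈ E from hk)
  refine ⟨(y : H) * p, mul_mem (le_normalizer_map M.subtype (mem_map_of_mem M.subtype hy)) (le_normalizer hp), ?_⟩
  rw [map_mul, hpk, ← map_mul, ← Subgroup.coe_mul, hyk]

omit hπ

variable {P : Subgroup H} (hP : IsPGroup ℓ P)
  (hZ : ∀ Q : Subgroup H, IsPGroup ℓ Q → Q ≤ π.ker → ∀ z ∈ Q, ∀ h, h * z = z * h)
include hP hZ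

theorem central_of_mem {z : H} (hz : z ∈ P) (h1 : π z = 1) (h : H) : h * z = z * h :=
  hZ _ (hP.to_le (inf_le_left (b := π.ker))) inf_le_right z ⟨hz, MonoidHom.mem_ker.2 h1⟩ h

omit hP in
/-- An element of the kernel fixes an element of prime order which it moves centrally. -/
theorem ker_fix {k a : H} (hk : π k = 1) (ha : a ^ ℓ = 1) (hc : ∀ h, h * (k * a * k⁻¹ * a⁻¹) = k * a * k⁻¹ * a⁻¹ * h) :
    k * a * k⁻¹ = a := by
  obtain ⟨z, hz⟩ : ∃ z, z = k * a * k⁻¹ * a⁻¹ := ⟨_, rfl⟩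
  rw [← hz] at hc
  have hka : k * a * k⁻¹ = z * a := by rw [hz, inv_mul_cancel_right]
  have hpow : ∀ j : ℕ, k ^ j * a * (k ^ j)⁻¹ = z ^ j * a := by
    intro j
    induction j with
    | zero => simp
    | succ j ih =>
      rw [show k ^ (j + 1) * a * (k ^ (j + 1))⁻¹ = k * (k ^ j * a * (k ^ j)⁻¹) * k⁻¹ by rw [pow_succ']; group, ih,
        show k * (z ^ j * a) * k⁻¹ = (k * z ^ j * k⁻¹) * (k * a * k⁻¹) by group,
        (show Commute k (z ^ j) from Commute.pow_right (hc k) j).eq, mul_inv_cancel_right, hka, ← mul_assoc,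
        ← pow_succ]
  have hzl : z ^ ℓ = 1 := by
    have h1 : (z * a) ^ ℓ = 1 := by rw [← hka, conj_pow, ha, mul_one, mul_inv_cancel]
    rwa [(show Commute z a from (hc a).symm).mul_pow, ha, mul_one] at h1
  obtain ⟨i, m, hm, hord⟩ := Nat.exists_eq_pow_mul_and_not_dvd (orderOf_pos k).ne' ℓ hℓ.out.ne_one
  have hzm : z ^ m = 1 := by
    have hmem : k ^ m ∈ zpowers (k ^ m) := mem_zpowers _
    have hpg : IsPGroup ℓ (zpowers (k ^ m)) := by
      obtain ⟨j, -, hj⟩ := (Nat.dvd_prime_pow hℓ.out).1 (orderOf_dvd_of_pow_eq_one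
        (show (k ^ m) ^ ℓ ^ i = 1 by rw [← pow_mul, mul_comm, ← hord, pow_orderOf_eq_one]))
      exact IsPGroup.of_card (n := j) (by rw [Nat.card_zpowers, hj])
    have := hZ _ hpg (zpowers_le.2 (MonoidHom.mem_ker.2 (by rw [map_pow, hk, one_pow]))) _ hmem a
    have h2 := hpow m
    rw [← this, mul_inv_cancel_right] at h2
    exact mul_eq_right.1 h2.symm
  have : z = 1 := by
    have h1 := Nat.gcd_eq_gcd_ab ℓ m
    rw [show Nat.gcd ℓ m = 1 from hℓ.out.coprime_iff_not_dvd.2 hm] at h1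
    rw [← zpow_one z, show (1 : ℤ) = (ℓ : ℤ) * Nat.gcdA ℓ m + (m : ℤ) * Nat.gcdB ℓ m by exact_mod_cast h1, zpow_add,
      zpow_mul, zpow_mul, zpow_natCast, zpow_natCast, hzl, hzm, one_zpow, one_zpow, one_mul]
  rw [hka, this, one_mul]

/-- A lift squared exactly. -/
theorem exists_exact {h : H} (hh : h ∈ normalizer (P : Set H)) {A : ↥(alternatingGroup (Fin n))} (hA : A ∈ P.map π)
    (hA1 : A ^ ℓ = 1) (hhA : π h * A * (π h)⁻¹ = A ^ 2) :
    ∃ a ∈ P, π a = A ∧ a ^ ℓ = 1 ∧ h * a * h⁻¹ = a ^ 2 := by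
  obtain ⟨a, ha, rfl⟩ := hA
  have hm : h * a * h⁻¹ ∈ P := (mem_normalizer_iff.1 hh a).1 ha
  obtain ⟨z, hz⟩ : ∃ z, z = h * a * h⁻¹ * (a ^ 2)⁻¹ := ⟨_, rfl⟩
  have hπz : π z = 1 := by rw [hz, map_mul, map_mul, map_mul, map_inv, map_inv, hhA, map_pow, mul_inv_cancel]
  have hzP : z ∈ P := hz ▸ mul_mem hm (inv_mem (pow_mem ha 2))
  have hc := central_of_mem π hP hZ hzP hπz
  have hza : h * (z * a) * h⁻¹ = (z * a) ^ 2 := by
    rw [show h * (z * a) * h⁻¹ = (h * z * h⁻¹) * (h * a * h⁻¹) by group, hc h, mul_inv_cancel_right,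
      show h * a * h⁻¹ = z * a ^ 2 by rw [hz, inv_mul_cancel_right], ← mul_assoc, ← pow_two,
      (show Commute z a from (hc a).symm).mul_pow]
  refine ⟨z * a, mul_mem hzP ha, by rw [map_mul, hπz, one_mul], ?_, hza⟩
  have hw := central_of_mem π hP hZ (z := (z * a) ^ ℓ) (pow_mem (mul_mem hzP ha) ℓ)
    (by rw [map_pow, map_mul, hπz, one_mul, hA1]) h
  have e : h * (z * a) ^ ℓ * h⁻¹ = ((z * a) ^ ℓ) ^ 2 := by rw [← conj_pow, hza, ← pow_mul, mul_comm, pow_mul]
  rw [hw, mul_inv_cancel_right, pow_two] at e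
  exact mul_eq_left.1 e.symm

/-- Conjugation carries exactly squared lifts exactly. -/
theorem exact_act {h h' y x x' : H} (hh : h ∈ normalizer (P : Set H)) (hh' : h' ∈ normalizer (P : Set H))
    (hy : y ∈ normalizer (P : Set H)) (hxP : x ∈ P) (hxP' : x' ∈ P) (hxl : x ^ ℓ = 1)
    (hx : h * x * h⁻¹ = x ^ 2) (hx' : h' * x' * h'⁻¹ = x' ^ 2) {r : ℕ}
    (e1 : π y * π h * (π y)⁻¹ = π h') (e2 : π y * π x * (π y)⁻¹ = π x' ^ r) : y * x * y⁻¹ = x' ^ r := by
  obtain ⟨c, hc⟩ : ∃ c, c = y * x * y⁻¹ := ⟨_, rfl⟩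
  have hcP : c ∈ P := hc ▸ (mem_normalizer_iff.1 hy x).1 hxP
  have hcl : c ^ ℓ = 1 := by rw [hc, conj_pow, hxl, mul_one, mul_inv_cancel]
  obtain ⟨k, hk⟩ : ∃ k, k = (y * h * y⁻¹)⁻¹ * h' := ⟨_, rfl⟩
  have hkN : k ∈ normalizer (P : Set H) := hk ▸ mul_mem (inv_mem (mul_mem (mul_mem hy hh) (inv_mem hy))) hh'
  have hk1 : π k = 1 := by
    rw [hk, map_mul, map_inv, map_mul, map_mul, map_inv, e1, inv_mul_cancel]
  have hkc : k * c * k⁻¹ = c :=
    ker_fix π hZ hk1 hcl (central_of_mem π hP hZ (mul_mem ((mem_normalizer_iff.1 hkN c).1 hcP) (inv_mem hcP))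
      (by rw [map_mul, map_mul, map_mul, hk1, map_inv, hk1]; simp))
  have hc2 : h' * c * h'⁻¹ = c ^ 2 := by
    rw [show h' = y * h * y⁻¹ * k by rw [hk]; group,
      show y * h * y⁻¹ * k * c * (y * h * y⁻¹ * k)⁻¹ = y * h * y⁻¹ * (k * c * k⁻¹) * (y * h * y⁻¹)⁻¹ by group, hkc, hc,
      show y * h * y⁻¹ * (y * x * y⁻¹) * (y * h * y⁻¹)⁻¹ = y * (h * x * h⁻¹) * y⁻¹ by group, hx, conj_pow]
  obtain ⟨z, hz⟩ : ∃ z, z = c * (x' ^ r)⁻¹ := ⟨_, rfl⟩
  have hzc := central_of_mem π hP hZ (hz ▸ mul_mem hcP (inv_mem (pow_mem hxP' r)) : z ∈ P)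
    (by rw [hz, hc, map_mul, map_mul, map_mul, map_inv, map_inv, e2, map_pow, mul_inv_cancel])
  have hcz : c = z * x' ^ r := by rw [hz, inv_mul_cancel_right]
  rw [hcz, show h' * (z * x' ^ r) * h'⁻¹ = (h' * z * h'⁻¹) * (h' * x' ^ r * h'⁻¹) by group, hzc h',
    mul_inv_cancel_right, ← conj_pow, hx', (show Commute z (x' ^ r) from (hzc _).symm).mul_pow, pow_two z,
    ← pow_mul, ← pow_mul, mul_comm 2 r] at hc2
  have : z = 1 := mul_eq_left.1 (mul_right_cancel hc2).symm
  rw [← hc, hcz, this, one_mul]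

/-- Lifts commute if one is squared by an element fixing the other. -/
theorem exact_comm {h a b : H} (ha : a ∈ P) (hb : b ∈ P) (hab : π a * π b = π b * π a)
    (ha' : h * a * h⁻¹ = a ^ 2) (hb' : h * b * h⁻¹ = b) : a * b = b * a := by
  obtain ⟨z, hz⟩ : ∃ z, z = a * b * a⁻¹ * b⁻¹ := ⟨_, rfl⟩
  have hc := central_of_mem π hP hZ (hz ▸ mul_mem (mul_mem (mul_mem ha hb) (inv_mem ha)) (inv_mem hb) : z ∈ P)
    (by rw [hz, map_mul, map_mul, map_mul, map_inv, map_inv, hab]; group)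
  have e1 : a * b * a⁻¹ = z * b := by rw [hz, inv_mul_cancel_right]
  have e2 : a ^ 2 * b * (a ^ 2)⁻¹ = z ^ 2 * b := by
    rw [show a ^ 2 * b * (a ^ 2)⁻¹ = a * (a * b * a⁻¹) * a⁻¹ by rw [pow_two]; group, e1,
      show a * (z * b) * a⁻¹ = (a * z * a⁻¹) * (a * b * a⁻¹) by group, hc a, mul_inv_cancel_right, e1, ← mul_assoc,
      ← pow_two]
  have e3 : h * (a * b * a⁻¹) * h⁻¹ = a ^ 2 * b * (a ^ 2)⁻¹ := by
    rw [show h * (a * b * a⁻¹) * h⁻¹ = (h * a * h⁻¹) * (h * b * h⁻¹) * (h * a * h⁻¹)⁻¹ by group, ha', hb']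
  rw [e1, e2, show h * (z * b) * h⁻¹ = (h * z * h⁻¹) * (h * b * h⁻¹) by group, hc h, mul_inv_cancel_right, hb',
    pow_two] at e3
  have : z = 1 := mul_eq_left.1 (mul_right_cancel e3).symm
  rw [this, one_mul] at e1
  exact mul_inv_eq_iff_eq_mul.1 e1

omit hP hZ in
/-- An element carrying generators into the subgroup normalises it. -/
theorem mem_normalizer_closure {A : Type*} [Group A] [Finite A] {S : Set A} {s : A}
    (h : ∀ x ∈ S, s * x * s⁻¹ ∈ closure S) : s ∈ normalizer (closure S : Set A) := by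
  have hle : (closure S).map (MulAut.conj s).toMonoidHom ≤ closure S := by
    rw [MonoidHom.map_closure, closure_le]
    rintro _ ⟨x, hx, rfl⟩
    exact h x hx
  have heq : (closure S).map (MulAut.conj s).toMonoidHom = closure S := by
    refine Subgroup.eq_of_le_of_card_ge hle (le_of_eq ?_)
    rw [Subgroup.card_map_of_injective (MulAut.conj s).injective]
  rw [mem_normalizer_iff]
  intro x
  refine ⟨fun hx => heq.le ⟨x, hx, rfl⟩, fun hx => ?_⟩
  obtain ⟨y, hy, e⟩ := heq.ge hx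
  rwa [← (MulAut.conj s).injective (show MulAut.conj s y = MulAut.conj s x from e)]

omit hP hZ in
/-- Commuting elements of order dividing a prime generate a group of prime power order. -/
theorem closure_pgroup {A : Type*} [Group A] {S : Set A} (hc : ∀ x ∈ S, ∀ y ∈ S, x * y = y * x)
    (h1 : ∀ x ∈ S, x ^ ℓ = 1) : IsPGroup ℓ (closure S) := by
  haveI hI : IsMulCommutative (closure S) := Subgroup.isMulCommutative_closure hc
  have : ∀ x ∈ closure S, x ^ ℓ = 1 := by
    intro x hx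
    induction hx using Subgroup.closure_induction with
    | mem x hx => exact h1 x hx
    | one => exact one_pow ℓ
    | mul x y hx hy ihx ihy =>
      have : Commute x y := congrArg Subtype.val (hI.is_comm.comm ⟨x, hx⟩ ⟨y, hy⟩)
      rw [this.mul_pow, ihx, ihy, one_mul]
    | inv x _ ih => rw [inv_pow, ih, inv_one]
  exact fun x => ⟨1, Subtype.ext (by rw [SubmonoidClass.coe_pow, pow_one, this x x.2]; rfl)⟩

end Cfsg.Lib.Chev.AltSection
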