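import Cfsg.Agent.Lib.Chev.AltSection.Torus
import Cfsg.Agent.Lib.Chev.InvCent
import Cfsg.Agent.Lib.Linear.AltDeg.Weights

/-!
Exponent vectors of torus elements of prime order in a Chevalley group, the action of Weyl words on them,
and fusion.
-/

set_option autoImplicit false
set_option linter.unusedSectionVars false

namespace Cfsg.Lib.Chev.AltSection

open Cfsg.Lie Finset
open Cfsg.Lib.Linear.AltDeg (rootPow rootPow_add rootPow_injective)

variable {D : ChevalleyDatum} {T : Tbl}

variable (D T) in
/-- The pairings with the roots are linear in the coefficients on the simple roots. -/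
def CartLin : Prop :=
  ∀ j < D.rank, ∀ r < D.nroots,
    T.cartan j r = ∑ k : Fin D.rank, T.coroot r k * T.cartan j (T.simp' k)

section Ring

variable {R : Type*} [CommRing R]

variable (D T) in
/-- The value at a root of a vector given on the simple roots. -/
noncomputable def val (v : Fin D.rank → R) (r : ℕ) : R := ∑ k : Fin D.rank, (T.coroot r k : R) * v k

variable (D T) in
/-- The vector moved by a word. -/
noncomputable def act (u : List ℕ) (v : Fin D.rank → R) : Fin D.rank → R :=
  fun k => val D T v (wperm T u (T.simp' k))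

theorem val_smul (c : R) (v : Fin D.rank → R) (r : ℕ) : val D T (c • v) r = c * val D T v r := by
  simp only [val, Pi.smul_apply, smul_eq_mul, Finset.mul_sum]
  exact Finset.sum_congr rfl fun k _ => by ring

theorem val_zero (r : ℕ) : val D T (0 : Fin D.rank → R) r = 0 := by simp [val]

theorem act_smul (u : List ℕ) (c : R) (v : Fin D.rank → R) : act D T u (c • v) = c • act D T u v :=
  funext fun _ => val_smul c v _

theorem act_add (u : List ℕ) (v v' : Fin D.rank → R) : act D T u (v + v') = act D T u v + act D T u v' :=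
  funext fun _ => by simp [act, val, mul_add, Finset.sum_add_distrib]

variable (C : Cert D T)
include C

theorem val_simp (v : Fin D.rank → R) (k : Fin D.rank) : val D T v (T.simp' k) = v k := by
  have h := C.spec.cor_simple k k.2
  simp only [val]
  rw [Finset.sum_eq_single k]
  · rw [h k k.2]; simp
  · intro j _ hj
    rw [h j j.2, if_neg (fun e => hj (Fin.ext e))]; simp
  · intro hk; exact absurd (Finset.mem_univ k) hk

theorem coroot_word {u : List ℕ} (hu : IsWord D u) {r : ℕ} (hr : r < D.nroots) (l : Fin D.rank) :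
    T.coroot (wperm T u r) l = ∑ j : Fin D.rank, T.coroot r j * T.coroot (wperm T u (T.simp' j)) l := by
  rw [coroot_wperm C hu (r := r) hr l l.2, Finset.sum_range]

theorem val_act {u : List ℕ} (hu : IsWord D u) (v : Fin D.rank → R) {r : ℕ} (hr : r < D.nroots) :
    val D T (act D T u v) r = val D T v (wperm T u r) := by
  simp only [val, act, coroot_word C hu hr, Int.cast_sum, Int.cast_mul, Finset.sum_mul, Finset.mul_sum]
  rw [Finset.sum_comm]
  exact Finset.sum_congr rfl fun j _ => Finset.sum_congr rfl fun k _ => by ring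

theorem act_append {a b : List ℕ} (ha : IsWord D a) (hb : IsWord D b) (v : Fin D.rank → R) :
    act D T (a ++ b) v = act D T b (act D T a v) := by
  funext k
  have hk : T.simp' k < D.nroots := C.spec.simp_lt k k.2
  show val D T v _ = val D T (act D T a v) _
  rw [val_act C ha v (wperm_lt C hb hk), wperm_append]

theorem act_nil (v : Fin D.rank → R) : act D T [] v = v := funext fun k => val_simp C v k

theorem act_cancel {u : List ℕ} (hu : IsWord D u) (v : Fin D.rank → R) :
    act D T u.reverse (act D T u v) = v := by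
  rw [← act_append C hu hu.reverse]
  funext k
  have hs : T.simp' k < D.nroots := C.spec.simp_lt k k.2
  have e : wperm T u (wperm T u.reverse (T.simp' k)) = T.simp' k := by
    have := wperm_reverse C hu.reverse hs
    rwa [List.reverse_reverse] at this
  show val D T v _ = _
  rw [wperm_append, e, val_simp C]

theorem act_injective {u : List ℕ} (hu : IsWord D u) : Function.Injective (act (R := R) D T u) :=
  Function.LeftInverse.injective fun v => act_cancel C hu v

end Ring

variable {F : Type*} [Field F]

/-- The exponents of a torus element. -/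
def HasVec (D : ChevalleyDatum) (T : Tbl) {ℓ : ℕ} [NeZero ℓ] (ζ : F) (c : Fin D.rank → Fˣ)
    (v : Fin D.rank → ZMod ℓ) : Prop :=
  ∀ r < D.nroots, chr T D (extend' c) r = rootPow ζ (val D T v r)

variable (C : Cert D T) (hl : CartLin D T)
include C hl

theorem chr_coroot (c : Fin D.rank → Fˣ) {r : ℕ} (hr : r < D.nroots) :
    chr T D (extend' c) r = ∏ k : Fin D.rank, chr T D (extend' c) (T.simp' k) ^ T.coroot r k := by
  simp only [chr]
  rw [Finset.prod_congr rfl fun k (_ : k ∈ (Finset.univ : Finset (Fin D.rank))) => (Finset.prod_zpow _ _ _).symm,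
    Finset.prod_comm]
  refine Finset.prod_congr rfl fun j hj => ?_
  have hj' : j < D.rank := Finset.mem_range.1 hj
  rw [hl j hj' r hr]
  have hne := extend'_ne c j
  generalize extend' c j = x at hne
  induction (Finset.univ : Finset (Fin D.rank)) using Finset.induction with
  | empty => simp
  | insert a s ha ih => rw [Finset.sum_insert ha, Finset.prod_insert ha, zpow_add₀ hne, ih, ← zpow_mul,
      mul_comm (T.coroot r a)]

theorem tH_ext {c c' : Fin D.rank → Fˣ}
    (h : ∀ k : Fin D.rank, chr T D (extend' c) (T.simp' k) = chr T D (extend' c') (T.simp' k)) :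
    torusHom D T F c = torusHom D T F c' :=
  torusHom_congr fun r hr => by rw [chr_coroot C hl c hr, chr_coroot C hl c' hr]; simp only [h]

omit hl in
theorem chr_unique {c c' : Fin D.rank → Fˣ} (h : torusHom D T F c = torusHom D T F c') {r : ℕ}
    (hr : r < D.nroots) : chr T D (extend' c) r = chr T D (extend' c') r := by
  have h1 := torusHom_conj_xg C c hr (1 : F)
  rw [h, torusHom_conj_xg C c' hr, mul_one, mul_one] at h1
  exact (xg_injective C hr h1).symm

omit hl in
theorem exists_par {t : GL D.Idx F} (ht : t ∈ D.diagonalSubgroup F) : ∃ c, t = torusHom D T F c := by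
  rw [← torusHom_range C] at ht
  exact ⟨_, ht.choose_spec.symm⟩

omit hl in
theorem par_mem (c : Fin D.rank → Fˣ) : torusHom D T F c ∈ D.diagonalSubgroup F := by
  rw [← torusHom_range C]; exact ⟨c, rfl⟩

omit hl in
/-- One word describes every fusion induced by an element. -/
theorem exists_fusion_word (K : FullCert D T) {g : GL D.Idx F} (hg : g ∈ D.group F) :
    ∃ w, IsWord D w ∧ ∀ c e : Fin D.rank → Fˣ, g * torusHom D T F c * g⁻¹ = torusHom D T F e →
      ∀ r < D.nroots, chr T D (extend' e) (wperm T w r) = chr T D (extend' c) r := by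
  obtain ⟨n, hn, hfus⟩ := Cfsg.Lib.Chev.G2Alt.torus_fusion C K hg
  obtain ⟨w, hw, h, hh, rfl⟩ := (mem_monomial C).1 hn
  refine ⟨w, hw, fun c e he r hr => ?_⟩
  have hc : torusHom D T F c ∈ D.diagonalSubgroup F := par_mem C c
  have hd : g * torusHom D T F c * g⁻¹ ∈ D.diagonalSubgroup F := by rw [he]; exact par_mem C e
  have h1 := hfus _ hc hd
  rw [he, show wnu C F w * h * torusHom D T F c * (wnu C F w * h)⁻¹ =
    wnu C F w * (h * torusHom D T F c * h⁻¹) * (wnu C F w)⁻¹ by group,
    Cfsg.Lib.Chev.G2Alt.diag_commute C hh hc, mul_inv_cancel_right] at h1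
  obtain ⟨e', he', hchr⟩ := torus_word_conj C hw c
  rw [he'] at h1
  rw [chr_unique C h1 (wperm_lt C hw hr), hchr r hr]

variable {ℓ : ℕ} [hℓ : Fact ℓ.Prime] {ζ : F}

theorem hasVec_of_simple (hζ : IsPrimitiveRoot ζ ℓ) {c : Fin D.rank → Fˣ} {v : Fin D.rank → ZMod ℓ}
    (h : ∀ k : Fin D.rank, chr T D (extend' c) (T.simp' k) = rootPow ζ (v k)) : HasVec D T ζ c v := by
  intro r hr
  rw [chr_coroot C hl c hr]
  simp only [h, val]
  induction (Finset.univ : Finset (Fin D.rank)) using Finset.induction with
  | empty => simp [rootPow]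
  | insert a s ha ih =>
    rw [Finset.prod_insert ha, Finset.sum_insert ha, rootPow_add hζ, ih]
    refine congrArg₂ _ ?_ rfl
    obtain ⟨n, hn | hn⟩ := Int.eq_nat_or_neg (T.coroot r a)
    · rw [hn, zpow_natCast, Int.cast_natCast]
      clear hn
      induction n with
      | zero => simp [rootPow]
      | succ n ihn => rw [pow_succ, ihn, Nat.cast_succ, add_mul, one_mul, rootPow_add hζ]
    · rw [hn, zpow_neg, zpow_natCast, Int.cast_neg, Int.cast_natCast, neg_mul]
      refine inv_eq_of_mul_eq_one_right ?_
      have e : rootPow ζ (v a) ^ n = rootPow ζ ((n : ZMod ℓ) * v a) := by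
        clear hn
        induction n with
        | zero => simp [rootPow]
        | succ n ihn => rw [pow_succ, ihn, Nat.cast_succ, add_mul, one_mul, rootPow_add hζ]
      rw [e, ← rootPow_add hζ, add_neg_cancel]
      simp [rootPow]

theorem exists_vec (hζ : IsPrimitiveRoot ζ ℓ) {c : Fin D.rank → Fˣ} (h : torusHom D T F c ^ ℓ = 1) :
    ∃ v : Fin D.rank → ZMod ℓ, HasVec D T ζ c v := by
  have h1 : ∀ k : Fin D.rank, chr T D (extend' c) (T.simp' k) ^ ℓ = 1 := fun k => by
    have hr : T.simp' k < D.nroots := C.spec.simp_lt k k.2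
    have h2 : torusHom D T F (c ^ ℓ) = torusHom D T F 1 := by rw [map_pow, h, map_one]
    have h3 := chr_unique C h2 hr
    have hpow : ∀ n : ℕ, chr T D (extend' (c ^ n)) (T.simp' k) = chr T D (extend' c) (T.simp' k) ^ n := by
      intro n
      simp only [chr, ← Finset.prod_pow]
      refine Finset.prod_congr rfl fun j _ => ?_
      unfold extend'
      split_ifs <;> simp [← zpow_natCast, ← zpow_mul, mul_comm]
    have hone : chr T D (extend' (1 : Fin D.rank → Fˣ)) (T.simp' k) = 1 := by
      simp only [chr]
      exact Finset.prod_eq_one fun j _ => by unfold extend'; split_ifs <;> simp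
    rw [hpow, hone] at h3
    exact h3
  choose v hv using fun k => hζ.eq_pow_of_pow_eq_one (h1 k)
  exact ⟨fun k => (v k : ZMod ℓ), hasVec_of_simple C hl hζ fun k => by
    rw [rootPow, ZMod.val_natCast, Nat.mod_eq_of_lt (hv k).1, (hv k).2]⟩

omit hl in
theorem HasVec.unique (hζ : IsPrimitiveRoot ζ ℓ) {c : Fin D.rank → Fˣ} {v v' : Fin D.rank → ZMod ℓ}
    (h : HasVec D T ζ c v) (h' : HasVec D T ζ c v') : v = v' := funext fun k => by
  have hr : T.simp' k < D.nroots := C.spec.simp_lt k k.2
  have e := (h _ hr).symm.trans (h' _ hr)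
  rw [val_simp C, val_simp C] at e
  exact rootPow_injective hζ e

omit hl in
theorem HasVec.act (hζ : IsPrimitiveRoot ζ ℓ) {c e : Fin D.rank → Fˣ} {v v' : Fin D.rank → ZMod ℓ}
    {w : List ℕ} (hw : IsWord D w) (hc : HasVec D T ζ c v) (he : HasVec D T ζ e v')
    (h : ∀ r < D.nroots, chr T D (extend' e) (wperm T w r) = chr T D (extend' c) r) :
    AltSection.act D T w v' = v := funext fun k => by
  have hr : T.simp' k < D.nroots := C.spec.simp_lt k k.2
  have e1 := h _ hr
  rw [hc _ hr, he _ (wperm_lt C hw hr), val_simp C] at e1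
  exact rootPow_injective hζ e1

omit hl in
theorem HasVec.word_conj (hζ : IsPrimitiveRoot ζ ℓ) {c e : Fin D.rank → Fˣ} {v : Fin D.rank → ZMod ℓ}
    {u : List ℕ} (hu : IsWord D u) (hc : HasVec D T ζ c v)
    (he : (wnu C F u)⁻¹ * torusHom D T F c * wnu C F u = torusHom D T F e) :
    HasVec D T ζ e (AltSection.act D T u v) := by
  obtain ⟨e', he', hchr⟩ := torus_word_conj C hu e
  have h1 : torusHom D T F e' = torusHom D T F c := by rw [← he', ← he]; group
  intro r hr
  rw [val_act C hu v hr, ← hc _ (wperm_lt C hu hr), ← chr_unique C h1 (wperm_lt C hu hr), hchr r hr]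

omit hl in
/-- The exponents of a product of powers. -/
theorem HasVec.mul (hζ : IsPrimitiveRoot ζ ℓ) {c e : Fin D.rank → Fˣ} {v v' : Fin D.rank → ZMod ℓ}
    (hc : HasVec D T ζ c v) (he : HasVec D T ζ e v') : HasVec D T ζ (c * e) (v + v') := fun r hr => by
  have hm : chr T D (extend' (c * e)) r = chr T D (extend' c) r * chr T D (extend' e) r := by
    simp only [chr, ← Finset.prod_mul_distrib]
    refine Finset.prod_congr rfl fun j _ => ?_
    unfold extend'
    split_ifs <;> simp [mul_zpow]
  rw [hm, hc r hr, he r hr, show val D T (v + v') r = val D T v r + val D T v' r by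
    simp [val, mul_add, Finset.sum_add_distrib], rootPow_add hζ]

omit hl in
theorem HasVec.one (hζ : IsPrimitiveRoot ζ ℓ) : HasVec D T ζ (1 : Fin D.rank → Fˣ) (0 : Fin D.rank → ZMod ℓ) :=
  fun r _ => by
    rw [val_zero]
    simp only [chr, rootPow, ZMod.val_zero, pow_zero]
    exact Finset.prod_eq_one fun j _ => by unfold extend'; split_ifs <;> simp

omit hl in
theorem HasVec.pow (hζ : IsPrimitiveRoot ζ ℓ) {c : Fin D.rank → Fˣ} {v : Fin D.rank → ZMod ℓ}
    (hc : HasVec D T ζ c v) : ∀ n : ℕ, HasVec D T ζ (c ^ n) ((n : ZMod ℓ) • v)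
  | 0 => by simpa using HasVec.one C hζ (D := D) (T := T)
  | n + 1 => by
    rw [pow_succ, Nat.cast_succ, add_smul, one_smul]
    exact (HasVec.pow hζ hc n).mul C hζ hc

/-- Elements with the same exponents are equal. -/
theorem tH_eq_of_vec (hζ : IsPrimitiveRoot ζ ℓ) {c e : Fin D.rank → Fˣ} {v : Fin D.rank → ZMod ℓ}
    (hc : HasVec D T ζ c v) (he : HasVec D T ζ e v) : torusHom D T F c = torusHom D T F e :=
  torusHom_congr fun r hr => by rw [hc r hr, he r hr]

end Cfsg.Lib.Chev.AltSection
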