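import Cfsg.Agent.Lib.Chev.AltSection.Word
import Cfsg.Agent.Lib.Chev.OrderF4
import Cfsg.Agent.Lib.Chev.FullAll

/-!
Weyl words of type `F₄`: their exponents.
-/

set_option autoImplicit false
set_option linter.unusedSectionVars false
set_option maxRecDepth 100000

namespace Cfsg.Lib.Chev.AltSection

open Cfsg.Lie

private theorem cF : Cert chevF4 tblF4 := fullCertF4.comm.cert

/-- A word fixes the simple roots in a given power. -/
def FixExp (D : ChevalleyDatum) (T : Tbl) (e : ℕ) (u : List ℕ) : Prop :=
  ∀ k < D.rank, wperm T (List.replicate e u).flatten (T.simp' k) = T.simp' k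

instance (D : ChevalleyDatum) (T : Tbl) (e : ℕ) (u : List ℕ) : Decidable (FixExp D T e u) :=
  inferInstanceAs (Decidable (∀ k < D.rank, _))

/-- A word negates all roots in a given power. -/
def NegExp (D : ChevalleyDatum) (T : Tbl) (e : ℕ) (u : List ℕ) : Prop :=
  ∀ r < D.nroots, wperm T (List.replicate e u).flatten r = T.neg r

instance (D : ChevalleyDatum) (T : Tbl) (e : ℕ) (u : List ℕ) : Decidable (NegExp D T e u) :=
  inferInstanceAs (Decidable (∀ k < D.nroots, _))

theorem expF4 : ∀ u ∈ allW (nth ([], []) weylF4) chevF4.rank,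
    FixExp chevF4 tblF4 6 u ∨ FixExp chevF4 tblF4 8 u ∨ NegExp chevF4 tblF4 6 u := by decide +kernel

theorem twentyfour_F4 : ∀ u ∈ allW (nth ([], []) weylF4) chevF4.rank, ∀ k < chevF4.rank,
    wperm tblF4 (List.replicate 24 u).flatten (tblF4.simp' k) = tblF4.simp' k := by
  intro u hu
  rcases expF4 u hu with h | h | h
  · exact exp_dvd (D := chevF4) (by norm_num) h
  · exact exp_dvd (D := chevF4) (by norm_num) h
  · refine exp_dvd (D := chevF4) (e := 12) (by norm_num) fun k hk => ?_
    have hlt : tblF4.simp' k < chevF4.nroots := cF.spec.simp_lt k hk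
    have h1 := h _ hlt
    have h2 := h _ (cF.spec.neg_lt _ hlt)
    rw [wperm_flatten] at h1 h2 ⊢
    rw [show (12 : ℕ) = 6 + 6 from rfl, Function.iterate_add_apply, h1, h2, cF.spec.neg_neg _ hlt]

theorem prod_lens_F4 : ∏ j ∈ Finset.range chevF4.rank, (nth ([], []) weylF4 j).1.length = 1152 := by
  decide +kernel

variable {F : Type*} [Field F] [Fintype F]

/-- No section with an element of order eleven normalised with exponent four. -/
theorem F4_no_eleven (hq : Nat.card F % 11 = 1) {H A : Type*} [Group H] [Finite H] [Group A]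
    (f : H →* ↥(chevF4.group F)) (hf : Function.Injective f) (π : H →* A) (hπ : Function.Surjective π)
    {a s : A} (ha : orderOf a = 11) (hs : s * a * s⁻¹ = a ^ 4) : False := by
  haveI : Fact (Nat.Prime 11) := ⟨by norm_num⟩
  exact no_single cF fullCertF4 chkWeylF4 twentyfour_F4 hq (by rw [prod_lens_F4]; norm_num) f hf π hπ ha hs
    (by norm_num) (by norm_num)

/-- No section with commuting elements of orders five and seven normalised with exponent seventeen. -/
theorem F4_no_five_seven (hq₅ : Nat.card F % 5 = 1) (hq₇ : Nat.card F % 7 = 1) {H A : Type*} [Group H]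
    [Finite H] [Group A] (f : H →* ↥(chevF4.group F)) (hf : Function.Injective f) (π : H →* A)
    (hπ : Function.Surjective π) {a b s : A} (ha : orderOf a = 5) (hb : orderOf b = 7) (hab : a * b = b * a)
    (hsa : s * a * s⁻¹ = a ^ 17) (hsb : s * b * s⁻¹ = b ^ 17) : False := by
  haveI : Fact (Nat.Prime 5) := ⟨by norm_num⟩
  haveI : Fact (Nat.Prime 7) := ⟨by norm_num⟩
  obtain ⟨u, hu, hfix, hneg⟩ := exists_word cF fullCertF4 chkWeylF4 twentyfour_F4 hq₅ hq₇
    (by rw [prod_lens_F4]; norm_num) (by rw [prod_lens_F4]; norm_num) (by norm_num) f hf π hπ ha hb hab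
    (by rw [hsa]; exact pow_mem (Subgroup.mem_zpowers a) 17) (by rw [hsb]; exact pow_mem (Subgroup.mem_zpowers b) 17)
  have hpow : ∀ {x : A}, s * x * s⁻¹ = x ^ 17 → ∀ i : ℕ, s ^ i * x * (s ^ i)⁻¹ = x ^ 17 ^ i := by
    intro x hx i
    induction i with
    | zero => simp
    | succ i ih =>
      rw [pow_succ', show s * s ^ i * x * (s * s ^ i)⁻¹ = s * (s ^ i * x * (s ^ i)⁻¹) * s⁻¹ by group, ih,
        ← conj_pow, hx, ← pow_mul, ← pow_succ']
  rcases expF4 u hu with h | h | h
  · have h' := (hfix 6 h).1
    rw [hpow hsa] at h'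
    have := (pow_eq_pow_iff_modEq (x := a) (n := 1)).mp (by rw [h', pow_one])
    rw [ha] at this
    revert this
    decide
  · have h' := (hfix 8 h).2
    rw [hpow hsb] at h'
    have := (pow_eq_pow_iff_modEq (x := b) (n := 1)).mp (by rw [h', pow_one])
    rw [hb] at this
    revert this
    decide
  · have h' := (hneg 6 h).2
    rw [hpow hsb, eq_inv_iff_mul_eq_one, ← pow_succ, ← orderOf_dvd_iff_pow_eq_one, hb] at h'
    revert h'
    decide

end Cfsg.Lib.Chev.AltSection
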