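import Mathlib

/-!
A pair of commuting elements of coprime prime orders of a section, with a common normalising element,
lifted and conjugated into an abelian subgroup of prime-to index.
-/

namespace Cfsg.Lib.Chev.AltSection

open Subgroup

/-- Elements normalising a cyclic subgroup of prime order lift to elements normalising one of its lifts. -/
theorem exists_sylow_lift {H A : Type*} [Group H] [Finite H] [Group A] (π : H →* A)
    (hπ : Function.Surjective π) {ℓ : ℕ} [hℓ : Fact ℓ.Prime] {a : A} (ha : orderOf a = ℓ) :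
    ∃ P : Subgroup H, IsPGroup ℓ P ∧ a ∈ P.map π ∧
      ∀ x : A, x * a * x⁻¹ ∈ zpowers a → x ∈ (normalizer (P : Set H)).map π := by
  let M : Subgroup H := (normalizer (zpowers a : Set A)).comap π
  let K : Subgroup M := ((zpowers a).comap π).subgroupOf M
  have hKn : K.Normal := by
    refine ⟨fun k hk g => ?_⟩
    show π ((g * k * g⁻¹ : M) : H) ∈ zpowers a
    push_cast
    rw [map_mul, map_mul, map_inv]
    exact (mem_normalizer_iff.mp g.2 _).mp hk
  obtain ⟨P⟩ : Nonempty (Sylow ℓ K) := inferInstance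
  let P' := ((P : Subgroup K).map K.subtype).map M.subtype
  let f : K →* zpowers a :=
    { toFun := fun q => ⟨π ((q : M) : H), q.2⟩
      map_one' := by ext; simp
      map_mul' := fun _ _ => by ext; simp }
  have hf : Function.Surjective f := by
    rintro ⟨x, hx⟩
    obtain ⟨g, rfl⟩ := hπ x
    exact ⟨⟨⟨g, show π g ∈ normalizer (zpowers a : Set A) from le_normalizer hx⟩, hx⟩, rfl⟩
  have htop : ((P.mapSurjective hf : Sylow ℓ (zpowers a)) : Subgroup (zpowers a)) = ⊤ := by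
    have : IsPGroup ℓ (⊤ : Subgroup (zpowers a)) :=
      (IsPGroup.of_card (n := 1) (by rw [Nat.card_zpowers, ha, pow_one])).to_subgroup ⊤
    exact ((P.mapSurjective hf).3 this le_top).symm
  rw [Sylow.coe_mapSurjective] at htop
  obtain ⟨q, hq, hqa⟩ := htop.ge (mem_top (⟨a, mem_zpowers a⟩ : zpowers a))
  have haP : a ∈ P'.map π := ⟨_, ⟨_, ⟨q, hq, rfl⟩, rfl⟩, congrArg Subtype.val hqa⟩
  refine ⟨P', (P.2.map _).map _, haP, fun x hx => ?_⟩
  haveI : Finite (zpowers a) := Nat.finite_of_card_ne_zero (by rw [Nat.card_zpowers, ha]; exact hℓ.out.ne_zero)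
  have hgen : zpowers (x * a * x⁻¹) = zpowers a := by
    refine Subgroup.eq_of_le_of_card_ge (zpowers_le.mpr hx) ?_
    rw [Nat.card_zpowers, Nat.card_zpowers, ← MulAut.conj_apply, MulEquiv.orderOf_eq]
  have hxN : x ∈ normalizer (zpowers a : Set A) := by
    rw [mem_normalizer_iff]
    intro y
    constructor
    · intro hy
      obtain ⟨i, rfl⟩ := mem_zpowers_iff.mp hy
      rw [← conj_zpow]
      exact zpow_mem hx i
    · intro hy
      rw [← hgen] at hy
      obtain ⟨i, hi⟩ := mem_zpowers_iff.mp hy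
      rw [conj_zpow] at hi
      rw [← mul_left_cancel (mul_right_cancel hi)]
      exact zpow_mem (mem_zpowers a) i
  obtain ⟨g, rfl⟩ := hπ x
  have hfr := Sylow.normalizer_sup_eq_top P
  obtain ⟨y, hy, k, hk, hyk⟩ := mem_sup_of_normal_right.mp (hfr.ge (mem_top (⟨g, hxN⟩ : M)))
  have hy' : (y : H) ∈ normalizer (P' : Set H) :=
    le_normalizer_map M.subtype (mem_map_of_mem M.subtype hy)
  have hP' : P'.map π ≤ (normalizer (P' : Set H)).map π := map_mono le_normalizer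
  have e : π g = π (y : H) * π (k : H) := by
    rw [← map_mul, ← Subgroup.coe_mul, hyk]
  rw [e]
  refine mul_mem (mem_map_of_mem π hy') ((zpowers_le.mpr (hP' haP)) hk)

/-- Two commuting lifts with a common normalising lift. -/
theorem exists_double_lift {H A : Type*} [Group H] [Finite H] [Group A] (π : H →* A)
    (hπ : Function.Surjective π) {ℓ₁ ℓ₂ : ℕ} [Fact ℓ₁.Prime] [Fact ℓ₂.Prime] {a b s : A}
    (ha : orderOf a = ℓ₁) (hb : orderOf b = ℓ₂) (hab : a * b = b * a)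
    (hsa : s * a * s⁻¹ ∈ zpowers a) (hsb : s * b * s⁻¹ ∈ zpowers b) :
    ∃ P Q : Subgroup H, IsPGroup ℓ₁ P ∧ IsPGroup ℓ₂ Q ∧ (∀ q ∈ Q, q ∈ normalizer (P : Set H)) ∧
      a ∈ P.map π ∧ b ∈ Q.map π ∧
      ∃ y : H, y ∈ normalizer (P : Set H) ∧ y ∈ normalizer (Q : Set H) ∧ π y = s := by
  obtain ⟨P, hP, haP, hlift⟩ := exists_sylow_lift π hπ ha
  let N := normalizer (P : Set H)
  have hbN : b ∈ N.map π := hlift b (by rw [← hab, mul_inv_cancel_right]; exact mem_zpowers a)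
  have hsN : s ∈ N.map π := hlift s hsa
  let π' := π.subgroupMap N
  have hπ' : Function.Surjective π' := π.subgroupMap_surjective N
  obtain ⟨Q, hQ, hbQ, hlift'⟩ := exists_sylow_lift π' hπ' (a := (⟨b, hbN⟩ : N.map π))
    (show orderOf (⟨b, hbN⟩ : N.map π) = ℓ₂ by rw [← Subgroup.orderOf_coe]; exact hb)
  obtain ⟨y, hy, hys⟩ := hlift' ⟨s, hsN⟩ (by
    obtain ⟨i, hi⟩ := mem_zpowers_iff.mp hsb
    exact mem_zpowers_iff.mpr ⟨i, Subtype.ext (by push_cast; exact hi)⟩)
  obtain ⟨q, hq, hqb⟩ := hbQ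
  refine ⟨P, Q.map N.subtype, hP, hQ.map _, ?_, haP, ⟨q, mem_map_of_mem _ hq, congrArg Subtype.val hqb⟩,
    y, y.2, le_normalizer_map N.subtype (mem_map_of_mem N.subtype hy), congrArg Subtype.val hys⟩
  rintro _ ⟨q, -, rfl⟩
  exact q.2

/-- The lifted pair is conjugate into `T`, and the normalising lift acts as a monomial element. -/
theorem double_into {G H : Type*} [Group G] [Finite G] [Group H] [Finite H] (T : Subgroup G)
    (hcomm : ∀ x ∈ T, ∀ y ∈ T, x * y = y * x) {ℓ₁ ℓ₂ : ℕ} [Fact ℓ₁.Prime] [h₂ : Fact ℓ₂.Prime]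
    (h1 : ¬ ℓ₁ ∣ T.index) (h2 : ¬ ℓ₂ ∣ T.index) {m : ℕ} (hm : ¬ ℓ₂ ∣ m)
    (hfus : ∀ g x : G, (∀ i : ℕ, g ^ i * x * (g ^ i)⁻¹ ∈ T) → g ^ m * x * (g ^ m)⁻¹ = x)
    (f : H →* G) (hf : Function.Injective f) {P Q : Subgroup H} (hP : IsPGroup ℓ₁ P) (hQ : IsPGroup ℓ₂ Q)
    (hn : ∀ q ∈ Q, q ∈ normalizer (P : Set H)) :
    ∃ φ : H →* G, Function.Injective φ ∧ (∀ x ∈ P, φ x ∈ T) ∧ ∀ x ∈ Q, φ x ∈ T := by
  obtain ⟨t, ht⟩ : (MulAction.fixedPoints (P.map f) (G ⧸ T)).Nonempty :=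
    (hP.map f).nonempty_fixed_point_of_prime_not_dvd_card _ (by rwa [← Subgroup.index_eq_card])
  induction t using QuotientGroup.induction_on with
  | H t =>
  let g : H →* G := (MulAut.conj t⁻¹).toMonoidHom.comp f
  have hg : Function.Injective g := (MulAut.conj t⁻¹).injective.comp hf
  have hPT : ∀ x ∈ P, g x ∈ T := by
    intro x hx
    have h := QuotientGroup.eq.mp (ht ⟨f x, x, hx, rfl⟩).symm
    simpa [g, mul_assoc] using h
  let C : Subgroup G := centralizer (g '' P)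
  have hTC : T ≤ C := fun x hx => mem_centralizer_iff.mpr fun z hz => by
    obtain ⟨p, hp, rfl⟩ := hz
    exact hcomm _ (hPT p hp) _ hx
  have hQC : ∀ q ∈ Q, g q ∈ C := by
    intro q hq
    refine mem_centralizer_iff.mpr ?_
    rintro _ ⟨p, hp, rfl⟩
    have horb : ∀ i : ℕ, g q ^ i * g p * (g q ^ i)⁻¹ ∈ T := fun i => by
      rw [← map_pow, ← map_inv, ← map_mul, ← map_mul]
      exact hPT _ ((mem_normalizer_iff.mp (pow_mem (hn q hq) i) p).mp hp)
    have hc : g q ^ m ∈ centralizer ({g p} : Set G) := by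
      rw [mem_centralizer_singleton_iff]
      exact mul_inv_eq_iff_eq_mul.mp (hfus _ _ horb)
    obtain ⟨k, hk⟩ := hQ ⟨q, hq⟩
    have hk' : g q ^ ℓ₂ ^ k = 1 := by
      rw [← map_pow, show q ^ ℓ₂ ^ k = 1 from congrArg Subtype.val hk, map_one]
    have hb := Nat.gcd_eq_gcd_ab m (ℓ₂ ^ k)
    rw [show Nat.gcd m (ℓ₂ ^ k) = 1 from
      Nat.Coprime.pow_right k (h₂.out.coprime_iff_not_dvd.mpr hm).symm] at hb
    have hmem : g q ∈ centralizer ({g p} : Set G) := by
      rw [← zpow_one (g q), show (1 : ℤ) = (m : ℤ) * Nat.gcdA m (ℓ₂ ^ k) + (ℓ₂ ^ k : ℕ) * Nat.gcdB m (ℓ₂ ^ k) by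
        exact_mod_cast hb, zpow_add, zpow_mul, zpow_mul, zpow_natCast, zpow_natCast, hk', one_zpow, mul_one]
      exact zpow_mem hc _
    exact (mem_centralizer_singleton_iff.mp hmem).symm
  let Q' : Subgroup C := (Q.map g).subgroupOf C
  have hQ' : IsPGroup ℓ₂ Q' := (hQ.map g).comap_of_injective C.subtype C.subtype_injective
  obtain ⟨c, hc⟩ : (MulAction.fixedPoints Q' (C ⧸ T.subgroupOf C)).Nonempty :=
    hQ'.nonempty_fixed_point_of_prime_not_dvd_card _ (by
      rw [← Subgroup.index_eq_card]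
      exact fun h => h2 (h.trans (Dvd.intro _ (relIndex_mul_index hTC))))
  induction c using QuotientGroup.induction_on with
  | H c =>
  refine ⟨(MulAut.conj (c : G)⁻¹).toMonoidHom.comp g, (MulAut.conj (c : G)⁻¹).injective.comp hg,
    fun x hx => ?_, fun x hx => ?_⟩
  · show (c : G)⁻¹ * g x * (c : G)⁻¹⁻¹ ∈ T
    rw [inv_inv, mul_assoc, mem_centralizer_iff.mp c.2 _ ⟨x, hx, rfl⟩, inv_mul_cancel_left]
    exact hPT x hx
  · show (c : G)⁻¹ * g x * (c : G)⁻¹⁻¹ ∈ T
    have h := QuotientGroup.eq.mp (hc ⟨⟨g x, hQC x hx⟩, x, hx, rfl⟩).symm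
    rw [mem_subgroupOf] at h
    simpa [mul_assoc] using h

end Cfsg.Lib.Chev.AltSection
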