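import Cfsg.Agent.Lib.Chev.AltSection.PrimeTorus

/-!
An abelian group of prime exponent in a Chevalley group with a non-cyclic part scaled by one element is
conjugate into the diagonal subgroup, when no fixed vector of a word of that order is scaled by a word.
-/

set_option autoImplicit false
set_option linter.unusedSectionVars false

namespace Cfsg.Lib.Chev.AltSection

open Cfsg.Lie

variable {D : ChevalleyDatum} {T : Tbl} {F : Type*} [Field F] [Finite F] (C : Cert D T) (K : FullCert D T)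
include C K

theorem exists_placed {ℓ : ℕ} [hℓ : Fact ℓ.Prime] (hl : CartLin D T) {A : List ℤ} {N : ℤ} (hA : RegData D T A N)
    {l : Fˣ} {e : ℕ} (hle : orderOf l = ℓ ^ e) (hN : 2 * N ≤ orderOf l) (hidx : ¬ ℓ ^ 2 ∣ (Tdg D F).index) {ζ : F}
    (hζ : IsPrimitiveRoot ζ ℓ) {cw : List ℕ} (hcw : IsWord D cw)
    (hexp : ∀ k < D.rank, wperm T (List.replicate ℓ cw).flatten (T.simp' k) = T.simp' k)
    {r k : ℕ} (hrk : (r : ZMod ℓ) * (k : ZMod ℓ) = 1)
    (hfix : ∀ v : Fin D.rank → ZMod ℓ, v ≠ 0 → act D T cw v = v →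
      ∀ w, IsWord D w → act D T w v ≠ (k : ZMod ℓ) • v)
    {H : Type*} [Group H] [Finite H] (f : H →* ↥(D.group F)) (hf : Function.Injective f) {P P₀ : Subgroup H}
    (hP : ∀ x ∈ P, x ^ ℓ = 1) (hc : ∀ x ∈ P, ∀ y ∈ P, x * y = y * x) (h0 : P₀ ≤ P) (hbig : ℓ < Nat.card P₀)
    {s : H} (hs : ∀ x ∈ P₀, s * x * s⁻¹ = x ^ r) :
    ∃ φ : H →* ↥(D.group F), Function.Injective φ ∧ ∀ x ∈ P, φ x ∈ Tdg D F := by
  classical
  have hPg : IsPGroup ℓ P := fun x => ⟨1, Subtype.ext (by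
    rw [SubmonoidClass.coe_pow, pow_one, hP x x.2]; rfl)⟩
  obtain ⟨t, Q, hQ, hQT⟩ := exists_small_orbit C K hidx (hPg.to_le h0) (f.comp P₀.subtype)
  have hQne : Q ≠ ⊥ := fun e => by rw [e, Subgroup.index_bot] at hQ; omega
  obtain ⟨v, hv, hv1⟩ := Q.bot_or_exists_ne_one.resolve_left hQne
  let f1 : H →* ↥(D.group F) := (MulAut.conj t⁻¹).toMonoidHom.comp f
  have hf1 : Function.Injective f1 := (MulAut.conj t⁻¹).injective.comp hf
  have hxT : f1 v ∈ Tdg D F := by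
    show t⁻¹ * f v * t⁻¹⁻¹ ∈ Tdg D F
    rw [inv_inv]
    exact hQT v hv
  have hxl : f1 v ^ ℓ = 1 := by rw [← map_pow, hP _ (h0 v.2), map_one]
  have hi := cent_index C K hl hA hle hN hidx hζ hcw hexp hxl fun y c w hxy hy hw hfixed => by
    obtain ⟨g, hg⟩ := isConj_iff.1 hxy
    have hyne : y ≠ 1 := by
      rintro rfl
      have : f1 v = 1 := conj_eq_one_iff.1 hg
      exact hv1 (Subtype.ext (hf1 (this.trans (map_one f1).symm)))
    have hw0 : w ≠ 0 := by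
      rintro rfl
      refine hyne (Subtype.ext ?_)
      rw [hy, OneMemClass.coe_one, ← map_one (torusHom D T F)]
      exact tH_eq_of_vec C hl hζ hw (HasVec.one C hζ)
    have hys : g * f1 s * g⁻¹ * y * (g * f1 s * g⁻¹)⁻¹ = y ^ r := by
      rw [← hg, show g * f1 s * g⁻¹ * (g * f1 v * g⁻¹) * (g * f1 s * g⁻¹)⁻¹ = g * (f1 s * f1 v * (f1 s)⁻¹) * g⁻¹ by
        group, ← map_inv, ← map_mul, ← map_mul, hs v v.2, map_pow, conj_pow]
    obtain ⟨u, hu, hact⟩ := exists_word_conj C K hζ (g * f1 s * g⁻¹)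
    have h1 := hact y (y ^ r) c (c ^ r) w ((r : ZMod ℓ) • w) hy hw
      (by rw [SubmonoidClass.coe_pow, hy, map_pow]) (hw.pow C hζ r) hys
    refine hfix w hw0 hfixed u hu ?_
    rw [act_smul] at h1
    calc act D T u w = ((k : ZMod ℓ) * (r : ZMod ℓ)) • act D T u w := by rw [mul_comm, hrk, one_smul]
      _ = (k : ZMod ℓ) • w := by rw [mul_smul, h1]
  obtain ⟨g, -, hg⟩ := toral_of_cent C K hxT hi (P := P.map f1) (hPg.map _) (by
    rintro _ ⟨x, hx, rfl⟩
    rw [← map_mul, ← map_mul, hc v (h0 v.2) x hx])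
  exact ⟨(MulAut.conj g).toMonoidHom.comp f1, (MulAut.conj g).injective.comp hf1, fun x hx => hg _ ⟨x, hx, rfl⟩⟩

end Cfsg.Lib.Chev.AltSection
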