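import Cfsg.Agent.Lib.Chev.AltSection.Exponents
import Cfsg.Agent.Lib.Chev.WeakClosed
import Cfsg.Agent.Lib.PGroup.Basic

/-!
A prime dividing the order of the Weyl group once at most: subgroups of that prime power order centralising a
torus element whose class meets the diagonal subgroup in no vector fixed by a word of that order are toral.
-/

set_option autoImplicit false
set_option linter.unusedSectionVars false

namespace Cfsg.Lib.Chev.AltSection

open Cfsg.Lie Finset
open Cfsg.Lib.Linear.AltDeg (rootPow rootPow_injective)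

/-- The diagonal subgroup inside the group. -/
noncomputable def Tdg (D : ChevalleyDatum) (F : Type*) [Field F] : Subgroup ↥(D.group F) :=
  (D.diagonalSubgroup F).subgroupOf (D.group F)

/-- A cocharacter with small values on the roots, regular and dominant. -/
structure RegData (D : ChevalleyDatum) (T : Tbl) (A : List ℤ) (N : ℤ) : Prop where
  root : ∀ r < D.nroots, fval T A r ≠ 0 ∧ -N < fval T A r ∧ fval T A r < N ∧
    (0 < fval T A r → D.nroots ≤ 2 * r)
  simp : ∀ k < D.rank, 0 < fval T A (T.simp' k)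

variable {D : ChevalleyDatum} {T : Tbl} {F : Type*} [Field F] (C : Cert D T) (K : FullCert D T)
include C K

theorem diag_of_comm_reg {A : List ℤ} {N : ℤ} (hA : RegData D T A N) {l : Fˣ} (hl : 2 * N ≤ orderOf l)
    {g : GL D.Idx F} (hg : g ∈ D.group F)
    (h : torusHom D T F (fun i : Fin D.rank => l ^ A.getD i 0) * g = g * torusHom D T F (fun i : Fin D.rank => l ^ A.getD i 0)) :
    g ∈ D.diagonalSubgroup F := by
  obtain ⟨w, hw, hwc, u, hu, d, hd, s, hs, -, rfl⟩ := cent_decomp C K hg h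
  have hchr : ∀ r, chr T D (extend' fun i : Fin D.rank => l ^ A.getD i 0) r = (l : F) ^ fval T A r :=
    fun r => chr_cochar C A l r
  have hinj : ∀ a b : ℤ, -N < a → a < N → -N < b → b < N → (l : F) ^ a = (l : F) ^ b → a = b := by
    intro a b ha ha' hb hb' hab
    rw [← Units.val_zpow_eq_zpow_val, ← Units.val_zpow_eq_zpow_val, Units.val_inj, zpow_eq_zpow_iff_modEq,
      Int.modEq_iff_dvd] at hab
    by_contra hne
    have := Int.le_of_dvd (abs_pos.2 (sub_ne_zero.2 (Ne.symm hne))) ((dvd_abs _ _).2 hab)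
    have h2 : |b - a| < 2 * N := abs_lt.2 ⟨by linarith, by linarith⟩
    omega
  have hone : ∀ x ∈ fixU C (fun i : Fin D.rank => l ^ A.getD i 0), x = (1 : GL D.Idx F) := by
    rintro _ ⟨t, ht, rfl⟩
    refine List.prod_eq_one fun x hx => ?_
    obtain ⟨r, hr, rfl⟩ := List.mem_map.1 hx
    have hrn : r < D.nroots := by have := (List.mem_range'_1.1 hr); omega
    obtain ⟨h0, h1, h2, -⟩ := hA.root r hrn
    rw [ht r ?_, xg_zero]
    rw [hchr]
    intro e
    exact h0 (hinj _ 0 h1 h2 (by omega) (by omega) (by rw [e, zpow_zero]))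
  rw [hone u hu, hone s hs, one_mul, mul_one]
  refine mul_mem hd (word_kernel C K _ rfl hw fun k hk => ?_)
  have hs' : T.simp' k < D.nroots := C.spec.simp_lt k hk
  have hw' : wperm T w (T.simp' k) < D.nroots := wperm_lt C hw hs'
  obtain ⟨-, a1, a2, -⟩ := hA.root _ hs'
  obtain ⟨-, b1, b2, hpos⟩ := hA.root _ hw'
  have e := hwc _ hs'
  rw [hchr, hchr] at e
  rw [hinj _ _ b1 b2 a1 a2 e] at hpos
  exact hpos (hA.simp k hk)

omit K in
theorem Tdg_comm {a b : ↥(D.group F)} (ha : a ∈ Tdg D F) (hb : b ∈ Tdg D F) : a * b = b * a :=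
  Subtype.ext (Cfsg.Lib.Chev.G2Alt.diag_commute C (Subgroup.mem_subgroupOf.1 ha) (Subgroup.mem_subgroupOf.1 hb))

omit K in
theorem Tdg_par {t : ↥(D.group F)} (ht : t ∈ Tdg D F) : ∃ c, (t : GL D.Idx F) = torusHom D T F c :=
  exists_par C (Subgroup.mem_subgroupOf.1 ht)

omit K in
theorem par_Tdg {t : ↥(D.group F)} {c : Fin D.rank → Fˣ} (ht : (t : GL D.Idx F) = torusHom D T F c) :
    t ∈ Tdg D F := Subgroup.mem_subgroupOf.2 (ht ▸ par_mem C c)

omit K in
theorem conj_of_par {g : ↥(D.group F)} {c e : Fin D.rank → Fˣ} {t t' : ↥(D.group F)}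
    (ht : (t : GL D.Idx F) = torusHom D T F c) (ht' : (t' : GL D.Idx F) = torusHom D T F e) (h : g * t * g⁻¹ = t') :
    (g : GL D.Idx F) * torusHom D T F c * (g : GL D.Idx F)⁻¹ = torusHom D T F e := by
  rw [← ht, ← ht', ← h]; rfl

variable {ℓ : ℕ} [hℓ : Fact ℓ.Prime]

/-- A conjugation between torus elements moves the exponents by a word. -/
theorem exists_word_conj {ζ : F} (hζ : IsPrimitiveRoot ζ ℓ) (g : ↥(D.group F)) :
    ∃ w, IsWord D w ∧ ∀ (t t' : ↥(D.group F)) (c e : Fin D.rank → Fˣ) (v v' : Fin D.rank → ZMod ℓ),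
      (t : GL D.Idx F) = torusHom D T F c → HasVec D T ζ c v → (t' : GL D.Idx F) = torusHom D T F e →
      HasVec D T ζ e v' → g * t * g⁻¹ = t' → act D T w v' = v := by
  obtain ⟨w, hw, hfus⟩ := exists_fusion_word C K g.2
  exact ⟨w, hw, fun t t' c e v v' hc hv he hv' h =>
    HasVec.act C hζ hw hv hv' (hfus c e (conj_of_par C hc he h))⟩

theorem exists_vec_of (hl : CartLin D T) {ζ : F} (hζ : IsPrimitiveRoot ζ ℓ) {t : ↥(D.group F)} (ht : t ∈ Tdg D F)
    (hℓt : t ^ ℓ = 1) :
    ∃ c v, (t : GL D.Idx F) = torusHom D T F c ∧ HasVec D T (ℓ := ℓ) ζ c v ∧ (t ≠ 1 → v ≠ 0) := by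
  obtain ⟨c, hc⟩ := Tdg_par C ht
  obtain ⟨v, hv⟩ := exists_vec C hl hζ (c := c) (by rw [← hc, ← SubmonoidClass.coe_pow, hℓt]; rfl)
  refine ⟨c, v, hc, hv, fun h1 e => h1 (Subtype.ext ?_)⟩
  rw [hc, OneMemClass.coe_one, ← map_one (torusHom D T F)]
  exact tH_eq_of_vec C hl hζ (e ▸ hv) (HasVec.one C hζ)

variable [Finite F]

/-- The index of the diagonal subgroup. -/
theorem index_sq {Ls : List WLevel} (hW : chkWeyl T Ls = true) (hq : Nat.card F % ℓ ^ 2 = 1)
    (hn : ¬ ℓ ^ 2 ∣ ∏ j ∈ Finset.range D.rank, (nth ([], []) Ls j).1.length) : ¬ ℓ ^ 2 ∣ (Tdg D F).index := by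
  set T' := (D.diagonalSubgroup F).subgroupOf (D.group F)
  have h := card_group C K (F := F) hW
  have hT : Nat.card T' = Nat.card ↥(D.diagonalSubgroup F) :=
    Nat.card_congr (Subgroup.subgroupOfEquivOfLe (diag_le_group C)).toEquiv
  rw [← T'.card_mul_index, hT, mul_comm (Nat.card F ^ (D.nroots / 2)), mul_assoc] at h
  haveI : Finite (GL D.Idx F) := inferInstance
  show ¬ ℓ ^ 2 ∣ T'.index
  rw [Nat.eq_of_mul_eq_mul_left Nat.card_pos h]
  intro hd
  apply hn
  have hq' : (Nat.card F : ZMod (ℓ ^ 2)) = 1 := by rw [← ZMod.natCast_mod, hq, Nat.cast_one]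
  rw [← ZMod.natCast_eq_zero_iff] at hd ⊢
  simpa [hq', Nat.cast_prod, Nat.cast_list_sum, List.map_map, Function.comp_def] using hd

/-- A group of prime power order acting on the cosets has an orbit of size at most the prime. -/
theorem exists_small_orbit (hidx : ¬ ℓ ^ 2 ∣ (Tdg D F).index) {P : Type*} [Group P] [Finite P] (hP : IsPGroup ℓ P)
    (f : P →* ↥(D.group F)) :
    ∃ (t : ↥(D.group F)) (Q : Subgroup P), Q.index ≤ ℓ ∧ ∀ x ∈ Q, t⁻¹ * f x * t ∈ Tdg D F := by
  classical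
  haveI : Finite (GL D.Idx F) := inferInstance
  letI : MulAction P (↥(D.group F) ⧸ Tdg D F) := MulAction.compHom _ f
  by_contra hno
  push Not at hno
  refine hidx ?_
  rw [Subgroup.index_eq_card, Nat.card_congr (MulAction.selfEquivSigmaOrbits P (↥(D.group F) ⧸ Tdg D F))]
  haveI : Fintype (Quotient (MulAction.orbitRel P (↥(D.group F) ⧸ Tdg D F))) := Fintype.ofFinite _
  rw [Nat.card_sigma]
  refine Finset.dvd_sum fun ω _ => ?_
  rw [Nat.card_congr (MulAction.orbitEquivQuotientStabilizer P ω.out), ← Subgroup.index_eq_card]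
  obtain ⟨j, hj⟩ := hP.index (MulAction.stabilizer P ω.out)
  rw [hj]
  refine Nat.pow_dvd_pow ℓ (m := 2) ?_
  by_contra hj2
  obtain ⟨t, ht⟩ := QuotientGroup.mk_surjective ω.out
  obtain ⟨x, hx, hxT⟩ := hno t (MulAction.stabilizer P ω.out) (by
    rw [hj]
    calc ℓ ^ j ≤ ℓ ^ 1 := Nat.pow_le_pow_right hℓ.out.pos (by omega)
      _ = ℓ := pow_one ℓ)
  apply hxT
  rw [MulAction.mem_stabilizer_iff, ← ht] at hx
  have h1 : ((f x * t : ↥(D.group F)) : ↥(D.group F) ⧸ Tdg D F) = t := hx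
  have := QuotientGroup.eq.1 h1.symm
  simpa [mul_assoc] using this

theorem card_Tdg_tors (hl : CartLin D T) {ζ : F} (hζ : IsPrimitiveRoot ζ ℓ) :
    Nat.card {t : ↥(D.group F) // t ∈ Tdg D F ∧ t ^ ℓ = 1} ≤ ℓ ^ D.rank := by
  classical
  haveI : NeZero ℓ := ⟨hℓ.out.ne_zero⟩
  choose c v hc hv _ using fun t : {t : ↥(D.group F) // t ∈ Tdg D F ∧ t ^ ℓ = 1} =>
    exists_vec_of C K hl hζ t.2.1 t.2.2
  refine (Nat.card_le_card_of_injective v fun a b e => Subtype.ext (Subtype.ext ?_)).trans_eq (by simp)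
  rw [hc a, hc b]
  exact tH_eq_of_vec C hl hζ (hv a) (e ▸ hv b)

/-- The rank of a group of prime power order in the group. -/
theorem frattini_index (hl : CartLin D T) (hidx : ¬ ℓ ^ 2 ∣ (Tdg D F).index) {ζ : F} (hζ : IsPrimitiveRoot ζ ℓ)
    {P : Type*} [Group P] [Finite P] (hP : IsPGroup ℓ P) (f : P →* ↥(D.group F)) (hf : Function.Injective f) :
    (frattini P).index ≤ ℓ ^ (D.rank + 1) := by
  classical
  haveI : Finite (GL D.Idx F) := inferInstance
  obtain ⟨t, Q, hQ, hQT⟩ := exists_small_orbit C K hidx hP f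
  haveI hQc : IsMulCommutative Q := ⟨⟨fun a b => Subtype.ext (hf (by
    have := Tdg_comm C (hQT _ a.2) (hQT _ b.2)
    rw [show t⁻¹ * f a * t * (t⁻¹ * f b * t) = t⁻¹ * (f a * f b) * t by group,
      show t⁻¹ * f b * t * (t⁻¹ * f a * t) = t⁻¹ * (f b * f a) * t by group] at this
    rw [Subgroup.coe_mul, Subgroup.coe_mul, map_mul, map_mul]
    exact mul_left_cancel (mul_right_cancel this)))⟩⟩
  letI : CommGroup Q := { (inferInstance : Group Q) with mul_comm := hQc.is_comm.comm }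
  let p5 : Q →* Q := powMonoidHom ℓ
  have hrange : p5.range.map Q.subtype ≤ frattini P := by
    rintro _ ⟨_, ⟨a, rfl⟩, rfl⟩
    exact Cfsg.Lib.PGroup.pow_mem_frattini hP _
  have hker : Nat.card p5.ker ≤ ℓ ^ D.rank := by
    refine le_trans ?_ (card_Tdg_tors C K hl hζ)
    refine Nat.card_le_card_of_injective (fun a => ⟨t⁻¹ * f (a : Q) * t, hQT _ (a : Q).2, ?_⟩) fun a b e => ?_
    · have : ((a : Q) : P) ^ ℓ = 1 := congrArg Subtype.val (MonoidHom.mem_ker.1 a.2)
      rw [show (t⁻¹ * f (a : Q) * t) ^ ℓ = t⁻¹ * f (a : Q) ^ ℓ * t by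
        simpa using conj_pow (a := t⁻¹) (b := f (a : Q)) (i := ℓ), ← map_pow, this, map_one, mul_one, inv_mul_cancel]
    · have h := congrArg Subtype.val e
      exact Subtype.ext (Subtype.ext (hf (mul_left_cancel (mul_right_cancel h))))
  have hidx' : p5.range.index = Nat.card p5.ker := by
    have h1 := p5.range.card_mul_index
    have h2 := p5.ker.card_mul_index
    rw [Subgroup.index_ker] at h2
    have h3 : Nat.card p5.range * p5.range.index = Nat.card p5.range * Nat.card p5.ker := by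
      rw [h1, ← h2, mul_comm]
    exact Nat.eq_of_mul_eq_mul_left Nat.card_pos h3
  calc (frattini P).index ≤ (p5.range.map Q.subtype).index :=
        Nat.le_of_dvd (Nat.pos_of_ne_zero Subgroup.index_ne_zero_of_finite) (Subgroup.index_dvd_of_le hrange)
    _ = p5.range.index * Q.index := by rw [Subgroup.index_map_subtype]
    _ ≤ ℓ ^ D.rank * ℓ := Nat.mul_le_mul (hidx' ▸ hker) hQ
    _ = ℓ ^ (D.rank + 1) := by rw [pow_succ]

/-- The regular element. -/
noncomputable def regPar (D : ChevalleyDatum) {F : Type*} [Field F] (A : List ℤ) (l : Fˣ) : Fin D.rank → Fˣ :=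
  fun i => l ^ A.getD i 0

/-- The class size is a multiple of the prime, so a centraliser has the diagonal subgroup with prime-to index. -/
theorem cent_index (hl : CartLin D T) {A : List ℤ} {N : ℤ} (hA : RegData D T A N) {l : Fˣ} {e : ℕ}
    (hle : orderOf l = ℓ ^ e) (hN : 2 * N ≤ orderOf l) (hidx : ¬ ℓ ^ 2 ∣ (Tdg D F).index) {ζ : F}
    (hζ : IsPrimitiveRoot ζ ℓ) {cw : List ℕ} (hcw : IsWord D cw)
    (hexp : ∀ k < D.rank, wperm T (List.replicate ℓ cw).flatten (T.simp' k) = T.simp' k)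
    {x : ↥(D.group F)} (hxl : x ^ ℓ = 1)
    (hfree : ∀ (t : ↥(D.group F)) (c : Fin D.rank → Fˣ) (v : Fin D.rank → ZMod ℓ), IsConj x t →
      (t : GL D.Idx F) = torusHom D T F c → HasVec D T ζ c v → act D T cw v ≠ v) :
    ¬ ℓ ∣ (Tdg D F).relIndex (Subgroup.centralizer {x}) ∨ ¬ Tdg D F ≤ Subgroup.centralizer {x} := by
  classical
  haveI : Finite (GL D.Idx F) := inferInstance
  by_cases hTC : Tdg D F ≤ Subgroup.centralizer {x}
  swap
  · exact Or.inr hTC
  refine Or.inl fun hd => hidx ?_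
  rw [← Subgroup.relIndex_mul_index hTC, pow_two]
  refine Nat.mul_dvd_mul hd ?_
  let Cl := {t : ↥(D.group F) // IsConj x t}
  have hcard : (Subgroup.centralizer {x}).index = Nat.card Cl := by
    rw [Subgroup.index_eq_card]
    let φ : ↥(D.group F) ⧸ Subgroup.centralizer {x} → Cl := Quotient.lift
      (fun g => ⟨g * x * g⁻¹, isConj_iff.2 ⟨g, rfl⟩⟩) fun a b h => by
        have h1 := Subgroup.mem_centralizer_singleton_iff.1 (QuotientGroup.leftRel_apply.1 h)
        refine Subtype.ext ?_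
        show a * x * a⁻¹ = b * x * b⁻¹
        calc a * x * a⁻¹ = a * (x * (a⁻¹ * b)) * b⁻¹ := by group
          _ = a * (a⁻¹ * b * x) * b⁻¹ := by rw [h1]
          _ = b * x * b⁻¹ := by group
    refine Nat.card_congr (Equiv.ofBijective φ ⟨fun p q => ?_, fun t => ?_⟩)
    · induction p using QuotientGroup.induction_on with
      | H a =>
      induction q using QuotientGroup.induction_on with
      | H b =>
        intro h
        refine QuotientGroup.eq.2 (Subgroup.mem_centralizer_singleton_iff.2 ?_)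
        have h1 : a * x * a⁻¹ = b * x * b⁻¹ := congrArg Subtype.val h
        calc a⁻¹ * b * x = a⁻¹ * (b * x * b⁻¹) * b := by group
          _ = x * (a⁻¹ * b) := by rw [← h1]; group
    · obtain ⟨g, hg⟩ := isConj_iff.1 t.2
      exact ⟨(g : ↥(D.group F) ⧸ Subgroup.centralizer {x}), Subtype.ext hg⟩
  rw [hcard]
  -- the torus part of prime power order
  let T5 : Subgroup ↥(D.group F) :=
    { carrier := {t | t ∈ Tdg D F ∧ ∃ k : ℕ, t ^ ℓ ^ k = 1}
      one_mem' := ⟨one_mem _, 0, one_pow _⟩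
      mul_mem' := fun {a b} ⟨ha, i, hi⟩ ⟨hb, j, hj⟩ => ⟨mul_mem ha hb, i + j, by
        rw [(show Commute a b from Tdg_comm C ha hb).mul_pow, pow_add, pow_mul a, hi, one_pow, one_mul, mul_comm,
          pow_mul, hj, one_pow]⟩
      inv_mem' := fun {a} ⟨ha, i, hi⟩ => ⟨inv_mem ha, i, by rw [inv_pow, hi, inv_one]⟩ }
  have hT5 : IsPGroup ℓ T5 := fun t => ⟨t.2.2.choose, Subtype.ext t.2.2.choose_spec⟩
  have hconj : ∀ (g : ↥(D.group F)) (t : Cl), IsConj x (g * t * g⁻¹) := fun g t =>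
    t.2.trans (isConj_iff.2 ⟨g, rfl⟩)
  letI act5 : MulAction T5 Cl :=
    { smul := fun g t => ⟨(g : ↥(D.group F)) * t * (g : ↥(D.group F))⁻¹, hconj _ t⟩
      one_smul := fun t => Subtype.ext (by show (1 : ↥(D.group F)) * t * (1 : ↥(D.group F))⁻¹ = t; group)
      mul_smul := fun g h t => Subtype.ext (by
        show ((g * h : T5) : ↥(D.group F)) * t * ((g * h : T5) : ↥(D.group F))⁻¹ =
          (g : ↥(D.group F)) * ((h : ↥(D.group F)) * t * (h : ↥(D.group F))⁻¹) * (g : ↥(D.group F))⁻¹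
        rw [Subgroup.coe_mul]; group) }
  have hmod : Nat.card Cl ≡ Nat.card (MulAction.fixedPoints T5 Cl) [MOD ℓ] :=
    hT5.card_modEq_card_fixedPoints Cl
  let S := {t : ↥(D.group F) // IsConj x t ∧ t ∈ Tdg D F}
  have hfix : Nat.card (MulAction.fixedPoints T5 Cl) = Nat.card S := by
    let R : ↥(D.group F) := ⟨torusHom D T F (regPar D A l), diag_le_group C (par_mem C _)⟩
    have hR : R ∈ T5 := ⟨par_Tdg C (c := regPar D A l) rfl, e, Subtype.ext (by
      show torusHom D T F (regPar D A l) ^ ℓ ^ e = 1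
      rw [← map_pow, ← map_one (torusHom D T F)]
      refine congrArg _ (funext fun i => ?_)
      show (l ^ A.getD i 0) ^ (ℓ ^ e) = 1
      rw [← zpow_natCast, zpow_comm, zpow_natCast, ← hle, pow_orderOf_eq_one, one_zpow])⟩
    refine Nat.card_congr
      { toFun := fun t => ⟨t.1.1, t.1.2, Subgroup.mem_subgroupOf.2 (diag_of_comm_reg C K hA hN t.1.1.2 ?_)⟩
        invFun := fun t => ⟨⟨t.1, t.2.1⟩, fun g => Subtype.ext (by
          show (g : ↥(D.group F)) * t.1 * (g : ↥(D.group F))⁻¹ = t.1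
          rw [Tdg_comm C g.2.1 t.2.2, mul_inv_cancel_right])⟩
        left_inv := fun _ => rfl
        right_inv := fun _ => rfl }
    have h := congrArg (fun s : Cl => (s : ↥(D.group F))) (t.2 ⟨R, hR⟩)
    have h' := mul_inv_eq_iff_eq_mul.1 (show R * t.1.1 * R⁻¹ = t.1.1 from h)
    exact congrArg Subtype.val h'
  -- the word permutes the part in the torus
  obtain ⟨hwords, -⟩ := Cfsg.Lib.Chev.G2Alt.monomial_pow C hcw (one_mem (D.diagonalSubgroup F)) ℓ
  let n : ↥(D.group F) := ⟨wnu C F cw, monomial_le_group C (wnu_mem C hcw)⟩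
  have hnT : ∀ t ∈ Tdg D F, n * t * n⁻¹ ∈ Tdg D F ∧ n⁻¹ * t * n ∈ Tdg D F := fun t ht => by
    have := conj_mem_diag C (wnu_mem (F := F) C hcw) (Subgroup.mem_subgroupOf.1 ht)
    exact ⟨Subgroup.mem_subgroupOf.2 this.1, Subgroup.mem_subgroupOf.2 this.2⟩
  let σ : Equiv.Perm S :=
    { toFun := fun t => ⟨n * t * n⁻¹, hconj n ⟨t, t.2.1⟩, (hnT _ t.2.2).1⟩
      invFun := fun t => ⟨n⁻¹ * t * n, by simpa using hconj n⁻¹ ⟨t, t.2.1⟩, (hnT _ t.2.2).2⟩
      left_inv := fun t => Subtype.ext (by show n⁻¹ * (n * t * n⁻¹) * n = t; group)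
      right_inv := fun t => Subtype.ext (by show n * (n⁻¹ * t * n) * n⁻¹ = t; group) }
  have hσj : ∀ (j : ℕ) (t : S) (c : Fin D.rank → Fˣ), ((t : ↥(D.group F)) : GL D.Idx F) = torusHom D T F c →
      ∃ c', ((((σ ^ j) t : S) : ↥(D.group F)) : GL D.Idx F) = torusHom D T F c' ∧
        ∀ r < D.nroots, chr T D (extend' c') (wperm T (List.replicate j cw).flatten r) = chr T D (extend' c) r := by
    intro j
    induction j with
    | zero => exact fun t c hc => ⟨c, by simpa using hc, fun r _ => by simp [wperm]⟩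
    | succ j ih =>
      intro t c hc
      obtain ⟨c', hc', hchr⟩ := ih t c hc
      obtain ⟨c'', hc'', hchr'⟩ := torus_word_conj C hcw c'
      refine ⟨c'', ?_, fun r hr => ?_⟩
      · rw [pow_succ', Equiv.Perm.mul_apply, ← hc'', ← hc']
        rfl
      · have hlt : wperm T (List.replicate j cw).flatten r < D.nroots :=
          wperm_lt C (fun i hi => by
            obtain ⟨u, hu, hiu⟩ := List.mem_flatten.1 hi
            rw [List.mem_replicate] at hu
            exact hcw i (hu.2 ▸ hiu)) hr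
        rw [List.replicate_succ, List.flatten_cons, wperm_append, hchr' _ hlt, hchr r hr]
  have hσl : σ ^ ℓ = 1 := Equiv.ext fun t => Subtype.ext (Subtype.ext (by
    obtain ⟨c, hc⟩ := Tdg_par C t.2.2
    obtain ⟨c', hc', hchr⟩ := hσj ℓ t c hc
    rw [Equiv.Perm.one_apply, hc', hc]
    exact torusHom_congr fun r hr => by
      have hid := samePerm_of_simple C K hwords (w := []) (fun i hi => absurd hi List.not_mem_nil)
        (fun k hk => by rw [hexp k hk]; rfl) r hr
      have := hchr r hr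
      rwa [hid] at this))
  have hpg : IsPGroup ℓ (Subgroup.zpowers σ) := by
    obtain ⟨j, -, hj⟩ := (Nat.dvd_prime_pow hℓ.out).1 (orderOf_dvd_of_pow_eq_one
      (show σ ^ ℓ ^ 1 = 1 by rwa [pow_one]))
    exact IsPGroup.of_card (n := j) (by rw [Nat.card_zpowers, hj])
  have hmod2 := hpg.card_modEq_card_fixedPoints S
  haveI hem : IsEmpty (MulAction.fixedPoints (Subgroup.zpowers σ) S) := ⟨fun ⟨t, ht⟩ => by
    have hσt : σ t = t := ht ⟨σ, Subgroup.mem_zpowers σ⟩
    have htl : t.1 ^ ℓ = 1 := by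
      obtain ⟨g, hg⟩ := isConj_iff.1 t.2.1
      rw [← hg, conj_pow, hxl, mul_one, mul_inv_cancel]
    obtain ⟨c, v, hc, hv, -⟩ := exists_vec_of C K hl hζ t.2.2 htl
    obtain ⟨c', hc', hchr⟩ := hσj 1 t c hc
    rw [pow_one, hσt] at hc'
    refine hfree t.1 c v t.2.1 hc hv (HasVec.act C hζ hcw hv (e := c') ?_ fun r hr => ?_)
    · exact fun r hr => by rw [← chr_unique C (hc.symm.trans hc') hr, hv r hr]
    · have := hchr r hr
      simpa using this⟩
  rw [show Nat.card (MulAction.fixedPoints (Subgroup.zpowers σ) S) = 0 from Nat.card_of_isEmpty] at hmod2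
  rw [hfix] at hmod
  exact Nat.modEq_zero_iff_dvd.1 (hmod.trans hmod2)

/-- Groups of prime power order centralising the element are conjugate into the diagonal subgroup. -/
theorem toral_of_cent {x : ↥(D.group F)} (hx : x ∈ Tdg D F)
    (hi : ¬ ℓ ∣ (Tdg D F).relIndex (Subgroup.centralizer {x}) ∨ ¬ Tdg D F ≤ Subgroup.centralizer {x})
    {P : Subgroup ↥(D.group F)} (hP : IsPGroup ℓ P) (hPx : ∀ p ∈ P, x * p = p * x) :
    ∃ g : ↥(D.group F), g * x = x * g ∧ ∀ p ∈ P, g * p * g⁻¹ ∈ Tdg D F := by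
  classical
  haveI : Finite (GL D.Idx F) := inferInstance
  have hTC : Tdg D F ≤ Subgroup.centralizer {x} := fun t ht =>
    Subgroup.mem_centralizer_singleton_iff.2 (Tdg_comm C ht hx)
  have hi' := hi.resolve_right (not_not.2 hTC)
  let Cx : Subgroup ↥(D.group F) := Subgroup.centralizer {x}
  have hPC : P ≤ Cx := fun p hp => Subgroup.mem_centralizer_singleton_iff.2 (hPx p hp).symm
  obtain ⟨t, ht⟩ : (MulAction.fixedPoints (P.subgroupOf Cx) (Cx ⧸ (Tdg D F).subgroupOf Cx)).Nonempty :=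
    (hP.comap_of_injective Cx.subtype Cx.subtype_injective).nonempty_fixed_point_of_prime_not_dvd_card _
      (by rw [← Subgroup.index_eq_card]; exact hi')
  induction t using QuotientGroup.induction_on with
  | H t =>
  refine ⟨(t : ↥(D.group F))⁻¹,
    (Commute.inv_left (Subgroup.mem_centralizer_singleton_iff.1 t.2)).eq, fun p hp => ?_⟩
  have h := QuotientGroup.eq.mp (ht ⟨⟨p, hPC hp⟩, hp⟩).symm
  simpa [Subgroup.mem_subgroupOf, mul_assoc] using h

end Cfsg.Lib.Chev.AltSection
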