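import Mathlib

/-!
Sections onto smaller alternating groups.
-/

namespace Cfsg.Lib.Chev.AltSection

/-- An embedding of a smaller alternating group and a section onto it. -/
theorem exists_subsection {H : Type*} [Group H] {r m : ℕ} (hmr : m ≤ r) (π : H →* ↥(alternatingGroup (Fin r)))
    (hπ : Function.Surjective π) :
    ∃ (H' : Subgroup H) (π' : ↥H' →* ↥(alternatingGroup (Fin m))), Function.Surjective π' := by
  let ι := Equiv.Perm.viaEmbeddingHom (Fin.castLEEmb hmr)
  have hι : Function.Injective ι := Equiv.Perm.viaEmbeddingHom_injective _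
  have hmem : ∀ q : ↥(alternatingGroup (Fin m)), ι q ∈ alternatingGroup (Fin r) := fun q => by
    rw [Equiv.Perm.mem_alternatingGroup, Equiv.Perm.viaEmbeddingHom_apply, Equiv.Perm.viaEmbedding,
      Equiv.Perm.sign_extendDomain]
    exact Equiv.Perm.mem_alternatingGroup.mp q.2
  let j : ↥(alternatingGroup (Fin m)) →* ↥(alternatingGroup (Fin r)) :=
    (ι.comp (alternatingGroup (Fin m)).subtype).codRestrict _ hmem
  have hj : Function.Injective j := fun x y h => Subtype.ext (hι (congrArg Subtype.val h))
  let e := MonoidHom.ofInjective hj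
  refine ⟨j.range.comap π,
    e.symm.toMonoidHom.comp ((π.comp (j.range.comap π).subtype).codRestrict _ fun x => x.2), ?_⟩
  refine e.symm.surjective.comp fun z => ?_
  obtain ⟨x, hx⟩ := hπ z
  exact ⟨⟨x, show π x ∈ j.range by rw [hx]; exact z.2⟩, Subtype.ext hx⟩

end Cfsg.Lib.Chev.AltSection
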