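import Cfsg.Agent.Lib.Chev.G2Alt.Monomial
import Cfsg.Agent.Lib.Chev.Card
import Cfsg.Agent.Lib.Chev.DescentAut

/-!
The diagonal subgroup inside a Chevalley group: index modulo a prime, extension of the field, and the
powers of the monomial elements.
-/

set_option autoImplicit false
set_option linter.unusedSectionVars false

namespace Cfsg.Lib.Chev.AltSection

open Cfsg.Lie
open scoped Matrix

variable {D : ChevalleyDatum} {T : Tbl} {F : Type*} [Field F] (C : Cert D T) (K : FullCert D T)
include C K

/-- The torus inside the group. -/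
theorem torus_index_mod [Finite F] {Ls : List WLevel} (hW : chkWeyl T Ls = true) {ℓ : ℕ} (hℓ : ℓ.Prime)
    (hq : Nat.card F % ℓ = 1)
    (hn : ¬ ℓ ∣ ∏ j ∈ Finset.range D.rank, (nth ([], []) Ls j).1.length) :
    ¬ ℓ ∣ ((D.diagonalSubgroup F).subgroupOf (D.group F)).index := by
  set T' := (D.diagonalSubgroup F).subgroupOf (D.group F)
  have h := card_group C K (F := F) hW
  have hT : Nat.card T' = Nat.card ↥(D.diagonalSubgroup F) :=
    Nat.card_congr (Subgroup.subgroupOfEquivOfLe (diag_le_group C)).toEquiv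
  rw [← T'.card_mul_index, hT, mul_comm (Nat.card F ^ (D.nroots / 2)), mul_assoc] at h
  haveI : Finite (GL D.Idx F) := inferInstance
  rw [Nat.eq_of_mul_eq_mul_left Nat.card_pos h]
  intro hd
  apply hn
  have hq' : (Nat.card F : ZMod ℓ) = 1 := by
    rw [← ZMod.natCast_mod, hq, Nat.cast_one]
  rw [← ZMod.natCast_eq_zero_iff] at hd ⊢
  simpa [hq', Nat.cast_prod, Nat.cast_list_sum, List.map_map, Function.comp_def] using hd

/-- A word acting as negation inverts the torus. -/
theorem word_neg_inverts {w : List ℕ} (hw : IsWord D w) (hneg : ∀ r < D.nroots, wperm T w r = T.neg r)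
    {x : GL D.Idx F} (hx : x ∈ D.diagonalSubgroup F) : wnu C F w * x * (wnu C F w)⁻¹ = x⁻¹ := by
  rw [← torusHom_range C] at hx
  obtain ⟨c, rfl⟩ := hx
  obtain ⟨e, he, hchr⟩ := torus_word_conj C hw c
  rw [he, ← map_inv]
  refine torusHom_congr fun r hr => ?_
  have h := hchr r hr
  rw [hneg r hr, chr_neg C.spec _ hr] at h
  have hinv : chr T D (extend' c⁻¹) r = (chr T D (extend' c) r)⁻¹ := by
    simp only [chr, ← Finset.prod_inv_distrib]
    refine Finset.prod_congr rfl fun j _ => ?_
    unfold extend'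
    split_ifs <;> simp [inv_zpow]
  rw [hinv, ← h, inv_inv]

omit C K in
theorem wperm_flatten (u : List ℕ) (m s : ℕ) :
    wperm T (List.replicate m u).flatten s = (fun t => wperm T u t)^[m] s := by
  induction m with
  | zero => simp [wperm]
  | succ m ih =>
    rw [List.replicate_succ, List.flatten_cons, Function.iterate_succ', Function.comp_apply, ← ih]
    simp [wperm, List.foldr_append]

omit C K in
/-- An exponent of a word passes to its multiples. -/
theorem exp_dvd {u : List ℕ} {e m : ℕ} (hem : e ∣ m)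
    (h : ∀ k < D.rank, wperm T (List.replicate e u).flatten (T.simp' k) = T.simp' k) :
    ∀ k < D.rank, wperm T (List.replicate m u).flatten (T.simp' k) = T.simp' k := by
  obtain ⟨c, rfl⟩ := hem
  intro k hk
  have := h k hk
  rw [wperm_flatten] at this ⊢
  rw [Function.iterate_mul]
  exact Function.iterate_fixed this c

omit C K in
/-- The group over an extension of the field. -/
theorem exists_extension {F : Type*} [Field F] [Fintype F] (C : Cert D T) (p : ℕ) [Fact p.Prime] [CharP F p]
    (n : ℕ) [NeZero n] :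
    ∃ (E : Type) (_ : Field E) (_ : Fintype E) (g : ↥(D.group F) →* ↥(D.group E)),
      Function.Injective g ∧ Nat.card E = Nat.card F ^ n := by
  let E := FiniteField.Extension F p n
  letI : Fintype E := Fintype.ofFinite E
  refine ⟨E, inferInstance, inferInstance,
    ((Matrix.GeneralLinearGroup.map (algebraMap F E)).comp (D.group F).subtype).codRestrict _
      (fun x => map_group_le C _ x.2), ?_, ?_⟩
  · intro x y hxy
    exact Subtype.ext (map_gl_injective _ (congrArg Subtype.val hxy))
  · rw [FiniteField.natCard_extension]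

omit C K in
/-- The residue of the order of a suitable extension. -/
theorem card_pow_mod {F : Type*} [Field F] [Fintype F] (p : ℕ) [Fact p.Prime] [CharP F p] {ℓ : ℕ}
    (hℓ : ℓ.Prime) (hp : p ≠ ℓ) {n : ℕ} (hn : ℓ - 1 ∣ n) : Nat.card F ^ n % ℓ = 1 := by
  haveI : Fact ℓ.Prime := ⟨hℓ⟩
  obtain ⟨k, -, hk⟩ := FiniteField.card F p
  rw [Nat.card_eq_fintype_card, hk]
  have h0 : (p : ZMod ℓ) ≠ 0 := by
    rw [Ne, ZMod.natCast_eq_zero_iff]
    exact fun h => hp ((Nat.prime_dvd_prime_iff_eq hℓ Fact.out).mp h).symm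
  obtain ⟨c, rfl⟩ := hn
  have h1 : (((p ^ (k : ℕ)) ^ ((ℓ - 1) * c) : ℕ) : ZMod ℓ) = ((1 : ℕ) : ZMod ℓ) := by
    push_cast
    rw [← pow_mul, mul_comm, mul_assoc, pow_mul, ZMod.pow_card_sub_one_eq_one h0, one_pow]
  rw [ZMod.natCast_eq_natCast_iff'] at h1
  rwa [Nat.mod_eq_of_lt hℓ.one_lt] at h1

end Cfsg.Lib.Chev.AltSection
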