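import Cfsg.Agent.Lib.Chev.AltSection.Torus
import Cfsg.Agent.Lib.Chev.AltSection.Lift
import Cfsg.Agent.Lib.Chev.G2Alt.Fusion

/-!
The normalising element of a pair of commuting elements of a section acts as a Weyl word.
-/

set_option autoImplicit false
set_option linter.unusedSectionVars false

namespace Cfsg.Lib.Chev.AltSection

open Cfsg.Lie Cfsg.Lib.Chev.G2Alt
open scoped Matrix

variable {D : ChevalleyDatum} {T : Tbl} {F : Type*} [Field F] (C : Cert D T) (K : FullCert D T)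
include C K

/-- A Weyl word whose powers govern the powers of the normalising element. -/
theorem exists_word [Finite F] {Ls : List WLevel} (hW : chkWeyl T Ls = true) {m : ℕ}
    (hm : ∀ u ∈ allW (nth ([], []) Ls) D.rank, ∀ k < D.rank,
      wperm T (List.replicate m u).flatten (T.simp' k) = T.simp' k)
    {ℓ₁ ℓ₂ : ℕ} [Fact ℓ₁.Prime] [Fact ℓ₂.Prime] (hq₁ : Nat.card F % ℓ₁ = 1) (hq₂ : Nat.card F % ℓ₂ = 1)
    (hn₁ : ¬ ℓ₁ ∣ ∏ j ∈ Finset.range D.rank, (nth ([], []) Ls j).1.length)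
    (hn₂ : ¬ ℓ₂ ∣ ∏ j ∈ Finset.range D.rank, (nth ([], []) Ls j).1.length) (hmℓ : ¬ ℓ₂ ∣ m)
    {H A : Type*} [Group H] [Finite H] [Group A] (f : H →* ↥(D.group F)) (hf : Function.Injective f)
    (π : H →* A) (hπ : Function.Surjective π) {a b s : A} (ha : orderOf a = ℓ₁) (hb : orderOf b = ℓ₂)
    (hab : a * b = b * a) (hsa : s * a * s⁻¹ ∈ Subgroup.zpowers a) (hsb : s * b * s⁻¹ ∈ Subgroup.zpowers b) :
    ∃ u ∈ allW (nth ([], []) Ls) D.rank,
      (∀ e : ℕ, (∀ k < D.rank, wperm T (List.replicate e u).flatten (T.simp' k) = T.simp' k) →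
        s ^ e * a * (s ^ e)⁻¹ = a ∧ s ^ e * b * (s ^ e)⁻¹ = b) ∧
      (∀ e : ℕ, (∀ r < D.nroots, wperm T (List.replicate e u).flatten r = T.neg r) →
        s ^ e * a * (s ^ e)⁻¹ = a⁻¹ ∧ s ^ e * b * (s ^ e)⁻¹ = b⁻¹) := by
  haveI : Finite (GL D.Idx F) := inferInstance
  obtain ⟨P, Q, hP, hQ, hn, haP, hbQ, y, hyP, hyQ, hys⟩ := exists_double_lift π hπ ha hb hab hsa hsb
  let T' := (D.diagonalSubgroup F).subgroupOf (D.group F)
  obtain ⟨φ, hφ, hφP, hφQ⟩ := double_into T'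
    (fun x hx z hz => Subtype.ext (diag_commute C (Subgroup.mem_subgroupOf.1 hx) (Subgroup.mem_subgroupOf.1 hz)))
    (torus_index_mod C K hW (Fact.out : ℓ₁.Prime) hq₁ hn₁) (torus_index_mod C K hW (Fact.out : ℓ₂.Prime) hq₂ hn₂)
    hmℓ (fun g x => fusion_exponent C K hW hm g x) f hf hP hQ hn
  let ψ : H →* GL D.Idx F := (D.group F).subtype.comp φ
  have hψ : Function.Injective ψ := (D.group F).subtype_injective.comp hφ
  obtain ⟨n, hnm, hfus⟩ := torus_fusion C K (φ y).2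
  -- conjugation on both lifts
  have hpow : ∀ R : Subgroup H, y ∈ Subgroup.normalizer (R : Set H) → (∀ x ∈ R, φ x ∈ T') →
      ∀ x ∈ R, ∀ i : ℕ, ψ (y ^ i * x * (y ^ i)⁻¹) = n ^ i * ψ x * (n ^ i)⁻¹ := by
    intro R hyR hR x hx i
    induction i with
    | zero => simp
    | succ i ih =>
      have h1 : y ^ i * x * (y ^ i)⁻¹ ∈ R := (Subgroup.mem_normalizer_iff.mp (pow_mem hyR i) x).mp hx
      have h2 : y * (y ^ i * x * (y ^ i)⁻¹) * y⁻¹ ∈ R := (Subgroup.mem_normalizer_iff.mp hyR _).mp h1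
      have m1 : ψ (y ^ i * x * (y ^ i)⁻¹) ∈ D.diagonalSubgroup F := Subgroup.mem_subgroupOf.1 (hR _ h1)
      have m2 : ψ (y * (y ^ i * x * (y ^ i)⁻¹) * y⁻¹) ∈ D.diagonalSubgroup F :=
        Subgroup.mem_subgroupOf.1 (hR _ h2)
      rw [map_mul, map_mul, map_inv] at m2
      have := hfus _ m1 m2
      rw [show y ^ (i + 1) * x * (y ^ (i + 1))⁻¹ = y * (y ^ i * x * (y ^ i)⁻¹) * y⁻¹ by rw [pow_succ']; group,
        map_mul, map_mul, map_inv]
      exact this.trans (by rw [ih, pow_succ']; group)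
  obtain ⟨u, hu, huw, d, hd, rfl⟩ := monomial_word C K hW hnm
  refine ⟨u, hu, fun e he => ?_, fun e he => ?_⟩
  · obtain ⟨hw, d', hd', hne⟩ := monomial_pow C huw hd e
    have hnd : (wnu C F u * d) ^ e ∈ D.diagonalSubgroup F := by
      rw [hne]; exact mul_mem (wnu_mem_diag C K hw he) hd'
    have key : ∀ R : Subgroup H, y ∈ Subgroup.normalizer (R : Set H) → (∀ x ∈ R, φ x ∈ T') →
        ∀ x ∈ R, y ^ e * x * (y ^ e)⁻¹ = x := fun R hyR hR x hx => hψ (by
      have hx' : ψ x ∈ D.diagonalSubgroup F := Subgroup.mem_subgroupOf.1 (hR x hx)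
      rw [hpow R hyR hR x hx e, diag_commute C hnd hx', mul_inv_cancel_right])
    obtain ⟨p, hp, rfl⟩ := haP
    obtain ⟨q, hq, rfl⟩ := hbQ
    constructor <;> rw [← hys, ← map_pow, ← map_inv, ← map_mul, ← map_mul]
    · rw [key P hyP hφP p hp]
    · rw [key Q hyQ hφQ q hq]
  · obtain ⟨hw, d', hd', hne⟩ := monomial_pow C huw hd e
    have key : ∀ R : Subgroup H, y ∈ Subgroup.normalizer (R : Set H) → (∀ x ∈ R, φ x ∈ T') →
        ∀ x ∈ R, y ^ e * x * (y ^ e)⁻¹ = x⁻¹ := fun R hyR hR x hx => hψ (by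
      rw [hpow R hyR hR x hx e, hne, map_inv]
      have hx' : ψ x ∈ D.diagonalSubgroup F := Subgroup.mem_subgroupOf.1 (hR x hx)
      rw [mul_inv_rev, show ∀ w : GL D.Idx F, w * d' * ψ x * (d'⁻¹ * w⁻¹) = w * (d' * ψ x * d'⁻¹) * w⁻¹ from
        fun w => by group, diag_commute C hd' hx', mul_inv_cancel_right]
      exact word_neg_inverts C K hw he hx')
    obtain ⟨p, hp, rfl⟩ := haP
    obtain ⟨q, hq, rfl⟩ := hbQ
    constructor <;> rw [← hys, ← map_pow, ← map_inv (π) (y ^ e), ← map_mul, ← map_mul, ← map_inv]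
    · rw [key P hyP hφP p hp]
    · rw [key Q hyQ hφQ q hq]

/-- The exponent form for one element. -/
theorem no_single [Finite F] {Ls : List WLevel} (hW : chkWeyl T Ls = true) {m : ℕ}
    (hm : ∀ u ∈ allW (nth ([], []) Ls) D.rank, ∀ k < D.rank,
      wperm T (List.replicate m u).flatten (T.simp' k) = T.simp' k)
    {ℓ : ℕ} [Fact ℓ.Prime] (hq : Nat.card F % ℓ = 1)
    (hn : ¬ ℓ ∣ ∏ j ∈ Finset.range D.rank, (nth ([], []) Ls j).1.length)
    {H A : Type*} [Group H] [Finite H] [Group A] (f : H →* ↥(D.group F)) (hf : Function.Injective f)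
    (π : H →* A) (hπ : Function.Surjective π) {a s : A} (ha : orderOf a = ℓ) {r : ℕ}
    (hs : s * a * s⁻¹ = a ^ r) (hr : r ^ m % ℓ ≠ 1) (hr0 : ¬ ℓ ∣ r) : False :=
  haveI : Finite (GL D.Idx F) := inferInstance
  no_fusion_section ((D.diagonalSubgroup F).subgroupOf (D.group F))
    (torus_index_mod C K hW (Fact.out : ℓ.Prime) hq hn) (fun g x => fusion_exponent C K hW hm g x)
    f hf π hπ ha hs hr hr0

end Cfsg.Lib.Chev.AltSection
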